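import Cfsg.Agent.Lib.Invol.EightTypeThree.Point
import Mathlib.GroupTheory.Transfer

/-!
# Groups with an abelian Sylow two-subgroup: local lemmas
-/

set_option autoImplicit false
set_option linter.unusedSectionVars false
set_option linter.style.haveILetI false

namespace CfsgLib.Invol.EightTypeThree

open Subgroup CfsgLib.Invol
open CfsgLib.ProdFusion (OC OC_le odd_card_OC le_OC le_normalizer_OC_self)

universe u

variable {G : Type u} [Group G] [Finite G]

/-- Burnside: a self-centralising normaliser gives `P` times the odd core -/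
theorem decomp_of_selfcentral (P : Sylow 2 G)
    (hP : normalizer ((P : Subgroup G) : Set G) ≤ centralizer ((P : Subgroup G) : Set G)) (g : G) :
    ∃ c ∈ (P : Subgroup G), ∃ d ∈ Cfsg.pPrimeCore 2 G, g = c * d := by
  haveI : Fact (Nat.Prime 2) := ⟨Nat.prime_two⟩
  set K := (MonoidHom.transferSylow P hP).ker with hK
  have hc : K.IsComplement' (P : Subgroup G) := MonoidHom.ker_transferSylow_isComplement' P hP
  have hKo : K ≤ Cfsg.pPrimeCore 2 G :=
    CfsgLib.Coprime.le_pPrimeCore_of_not_dvd Nat.prime_two (MonoidHom.not_dvd_card_ker_transferSylow P hP)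
  obtain ⟨⟨⟨k, hk⟩, ⟨c, hcP⟩⟩, hkc⟩ := hc.2 g
  refine ⟨c, hcP, c⁻¹ * k * c, hKo ?_, ?_⟩
  · simpa using (inferInstance : K.Normal).conj_mem k hk c⁻¹
  · rw [← hkc]; group

/-- inside a subgroup -/
theorem decomp_in {C R : Subgroup G} (hRC : R ≤ C) (h2 : IsPGroup 2 R) (hidx : ¬ 2 ∣ (R.subgroupOf C).index)
    (hn : ∀ n ∈ C, n ∈ normalizer (R : Set G) → n ∈ centralizer (R : Set G)) {g : G} (hg : g ∈ C) :
    ∃ c ∈ R, ∃ d ∈ OC C, g = c * d := by
  haveI : Fact (Nat.Prime 2) := ⟨Nat.prime_two⟩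
  let P : Sylow 2 C := (h2.of_equiv (subgroupOfEquivOfLe hRC).symm).toSylow hidx
  have hP : normalizer ((P : Subgroup C) : Set C) ≤ centralizer ((P : Subgroup C) : Set C) := by
    intro n hn'
    refine mem_centralizer_iff.2 fun r hr => Subtype.ext (mem_centralizer_iff.1 (hn n n.2 ?_) r hr)
    refine CfsgLib.ProdFusion.mem_of_forall_conj_mem fun r hr' => ?_
    exact (mem_normalizer_iff.1 hn' ⟨r, hRC hr'⟩).1 hr'
  obtain ⟨c, hc, d, hd, he⟩ := decomp_of_selfcentral P hP ⟨g, hg⟩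
  exact ⟨c, hc, d, ⟨d, hd, rfl⟩, congrArg Subtype.val he⟩

/-- an element normalising an abelian Sylow subgroup centralises it if its odd powers do -/
theorem centralizes_of_odd_part (E : Sylow 2 G) (hE : ∀ a ∈ (E : Subgroup G), ∀ b ∈ (E : Subgroup G), a * b = b * a)
    {n : G} (hn : n ∈ normalizer ((E : Subgroup G) : Set G))
    (h : ∀ k : ℕ, Odd (orderOf (n ^ k)) → n ^ k ∈ centralizer ((E : Subgroup G) : Set G)) :
    n ∈ centralizer ((E : Subgroup G) : Set G) := by
  haveI : Fact (Nat.Prime 2) := ⟨Nat.prime_two⟩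
  have h0 : orderOf n ≠ 0 := (orderOf_pos n).ne'
  set a := (orderOf n).factorization 2 with ha
  set r := orderOf n / 2 ^ a with hr
  have hra : 2 ^ a * r = orderOf n := Nat.ordProj_mul_ordCompl_eq_self _ 2
  have hr2 : ¬ 2 ∣ r := Nat.not_dvd_ordCompl Nat.prime_two h0
  have hcop : Nat.Coprime (2 ^ a) r := (Nat.prime_two.coprime_iff_not_dvd.2 hr2).pow_left a
  have hr0 : r ≠ 0 := fun e => h0 (by rw [← hra, e, mul_zero])
  have h1 : n ^ (2 ^ a) ∈ centralizer ((E : Subgroup G) : Set G) := h _ (by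
    rw [orderOf_pow' _ (by positivity), Nat.gcd_eq_right (hra ▸ dvd_mul_right _ _), ← hra,
      Nat.mul_div_cancel_left _ (by positivity)]
    exact Nat.odd_iff.2 (by omega))
  have h2 : n ^ r ∈ (E : Subgroup G) := by
    have hp : IsPGroup 2 (zpowers (n ^ r)) := IsPGroup.of_card (n := a) (by
      rw [Nat.card_zpowers, orderOf_pow' _ hr0, Nat.gcd_eq_right (hra ▸ dvd_mul_left _ _), ← hra,
        Nat.mul_div_cancel _ (Nat.pos_of_ne_zero hr0)])
    have hle : zpowers (n ^ r) ≤ normalizer ((E : Subgroup G) : Set G) := zpowers_le.2 (pow_mem hn r)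
    have h3 : IsPGroup 2 ((E : Subgroup G) ⊔ zpowers (n ^ r) : Subgroup G) :=
      IsPGroup.to_sup_of_normal_left' E.2 hp hle
    exact (E.3 h3 le_sup_left).le (mem_sup_right (mem_zpowers _))
  have h2' : n ^ r ∈ centralizer ((E : Subgroup G) : Set G) := mem_centralizer_iff.2 fun b hb => hE b hb _ h2
  have hb := Nat.gcd_eq_gcd_ab (2 ^ a) r
  rw [hcop] at hb
  have e : n = (n ^ (2 ^ a)) ^ Nat.gcdA (2 ^ a) r * (n ^ r) ^ Nat.gcdB (2 ^ a) r := by
    rw [← zpow_natCast, ← zpow_natCast n r, ← zpow_mul, ← zpow_mul, ← zpow_add, ← hb, Nat.cast_one, zpow_one]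
  rw [e]
  exact mul_mem (Subgroup.zpow_mem _ h1 _) (Subgroup.zpow_mem _ h2' _)

/-- factorised centralisers are inherited by conjugates under the normaliser -/
theorem Nice.conj {A : Subgroup G} {a n : G} (hn : n ∈ normalizer (A : Set G)) (h : Nice A a) :
    Nice A (n * a * n⁻¹) := by
  intro g hg
  have hg' : n⁻¹ * g * n ∈ centralizer ({a} : Set G) := mem_centralizer_singleton_iff.2 (by
    calc n⁻¹ * g * n * a = n⁻¹ * (g * (n * a * n⁻¹)) * n := by group
      _ = n⁻¹ * (n * a * n⁻¹ * g) * n := by rw [mem_centralizer_singleton_iff.1 hg]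
      _ = a * (n⁻¹ * g * n) := by group)
  obtain ⟨o, ho, m, hm, he⟩ := h _ hg'
  have e1 : CfsgLib.Coprime.conjBy n (centralizer ({a} : Set G)) = centralizer ({n * a * n⁻¹} : Set G) := by
    ext y
    rw [CfsgLib.Coprime.mem_conjBy, mem_centralizer_singleton_iff, mem_centralizer_singleton_iff,
      show y * (n * a * n⁻¹) = n * (n⁻¹ * y * n * a) * n⁻¹ by group,
      show n * a * n⁻¹ * y = n * (a * (n⁻¹ * y * n)) * n⁻¹ by group]
    exact ⟨fun e => by rw [e], fun e => mul_left_cancel (mul_right_cancel e)⟩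
  refine ⟨n * o * n⁻¹, ?_, n * m * n⁻¹, ⟨(normalizer (A : Set G)).mul_mem ((normalizer (A : Set G)).mul_mem hn hm.1) ((normalizer (A : Set G)).inv_mem hn), ?_⟩, ?_⟩
  · rw [← e1, ← CfsgLib.ProdFusion.conjBy_OC]
    exact ⟨o, ho, rfl⟩
  · rw [← e1]; exact ⟨m, hm.2, rfl⟩
  · rw [show n * o * n⁻¹ * (n * m * n⁻¹) = n * (o * m) * n⁻¹ by group, ← he]; group

/-- **the core theorem for an elementary Sylow subgroup with fixed-point-free automisers** -/
theorem factor_of_abelian_sylow (E : Sylow 2 G) (hE : Cfsg.IsElementaryAbelian 2 (E : Subgroup G))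
    (hE3 : 2 ^ 3 ≤ Nat.card (E : Subgroup G))
    (hfix : ∀ e ∈ (E : Subgroup G), e ≠ 1 → ∀ n ∈ normalizer ((E : Subgroup G) : Set G),
      Odd (orderOf n) → Commute n e → n ∈ centralizer ((E : Subgroup G) : Set G))
    {z b : G} (hz : z ∈ (E : Subgroup G)) (hz1 : z ≠ 1) (hb : b ∈ (E : Subgroup G)) (hb1 : b ≠ 1)
    (hzb : ¬ IsConj z b) :
    ∀ g : G, ∃ o ∈ Cfsg.pPrimeCore 2 G, ∃ n ∈ normalizer ((E : Subgroup G) : Set G), g = o * n := by
  haveI : Fact (Nat.Prime 2) := ⟨Nat.prime_two⟩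
  have hcomm : ∀ a ∈ (E : Subgroup G), ∀ c ∈ (E : Subgroup G), a * c = c * a := fun a ha c hc =>
    CfsgLib.EABasic.comm_of_isElementaryAbelian hE ha hc
  have hEc : (E : Subgroup G) ≤ centralizer ((E : Subgroup G) : Set G) := fun a ha =>
    mem_centralizer_iff.2 fun c hc => hcomm c hc a ha
  have hidx : ∀ C : Subgroup G, (E : Subgroup G) ≤ C → ¬ 2 ∣ ((E : Subgroup G).subgroupOf C).index :=
    fun C hC h => E.not_dvd_index (h.trans (by
      rw [← (E : Subgroup G).relIndex_mul_index hC]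
      exact dvd_mul_right _ _))
  refine factor_of_nice E hE hE3 le_normalizer (fun a _ _ g hg => hg) ?_ ?_ ?_ hz hz1 hb hb1 hzb
  · intro a ha g hg
    obtain ⟨n, hn, he⟩ := E.conj_eq_normalizer_conj_of_mem_centralizer a g⁻¹ (hEc ha)
      (hEc (by simpa using hg))
    exact ⟨n⁻¹, inv_mem hn, by simpa using he.symm⟩
  · intro g hg
    exact decomp_in hEc E.2 (hidx _ hEc) (fun n hn _ => hn) hg
  · intro a ha ha1 g hg
    have hEC : (E : Subgroup G) ≤ centralizer ({a} : Set G) := fun c hc =>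
      mem_centralizer_singleton_iff.2 (hcomm c hc a ha)
    obtain ⟨c, hc, d, hd, rfl⟩ := decomp_in hEC E.2 (hidx _ hEC) (fun n hnC hn =>
      centralizes_of_odd_part E hcomm hn fun k hk =>
        hfix a ha ha1 _ (pow_mem hn k) hk (Commute.pow_left (mem_centralizer_singleton_iff.1 hnC) k)) hg
    refine ⟨c * d * c⁻¹, ?_, c, ⟨le_normalizer hc, hEC hc⟩, by group⟩
    exact (mem_normalizer_iff.1 (le_normalizer_OC_self _ (hEC hc)) d).1 hd

end CfsgLib.Invol.EightTypeThree
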