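import Cfsg.Agent.Lib.Invol.EightTypeThree.CentralZ
import Cfsg.Agent.Lib.Invol.ZStar

/-!
# The centraliser of the second class is factorised; the conclusion
-/

set_option autoImplicit false
set_option linter.unusedSectionVars false
set_option linter.style.haveILetI false
set_option synthInstance.maxSize 4000
set_option synthInstance.maxHeartbeats 80000

namespace CfsgLib.Invol.EightTypeThree

open Subgroup CfsgLib.Invol Equiv
open CfsgLib.ProdFusion (OC OC_le OC_le_OC le_OC odd_card_OC le_normalizer_OC le_normalizer_OC_self)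

universe u

theorem pair_orbit : Eqv (act s₁ e₀) (e₀ + e₀₁) ∧ e₀ ≠ 0 ∧ e₀ ≠ 1 ∧ IsSingle e₀ ∧ e₀ + e₀₁ ≠ 0 ∧ e₀ + e₀₁ ≠ 1 ∧
    IsSingle (e₀ + e₀₁) ∧ Eqv (act s₁ e₀₁) e₀₁ := by decide +kernel

theorem pair_isolated : ∀ f : M5, f + e₀₁ ≠ 0 → f + e₀₁ ≠ 1 → IsSingle f → IsSingle (f + e₀₁) →
    Eqv f e₀ ∨ Eqv f (e₀ + e₀₁) := by decide +kernel

variable {G : Type u} [Group G] [Finite G]

namespace Frame

variable (F : Frame G)

abbrev Cb : Subgroup G := centralizer ({F.b} : Set G)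

theorem A_le_cent {a : G} (ha : a ∈ F.A) : F.A ≤ centralizer ({a} : Set G) := fun _ hc =>
  mem_centralizer_singleton_iff.2 (F.comm hc ha)

theorem A2 : ∀ c ∈ F.A, c * c = 1 := fun _ hc => F.sq hc

theorem x_cent_b : F.x ∈ F.Cb := mem_centralizer_singleton_iff.2 (mul_inv_eq_iff_eq_mul.1 (by
  rw [F.conj _ (F.le_norm F.x_spec.1), F.x_spec.2.1, F.v_eq_iff]
  exact pair_orbit.2.2.2.2.2.2.2))

theorem x_conj_c : F.x * F.c₀ * F.x⁻¹ = F.c₀ * F.b := by
  rw [show F.c₀ = F.v e₀ from rfl, F.conj _ (F.le_norm F.x_spec.1), F.x_spec.2.1, ← F.v_mul, F.v_eq_iff]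
  exact pair_orbit.1

theorem nice_c₀ : Nice F.A F.c₀ := by
  obtain ⟨n, hn, h⟩ := F.conj_rep pair_orbit.2.1 pair_orbit.2.2.1
  rw [if_pos pair_orbit.2.2.2.1] at h
  have h2 := Nice.conj (F.N.inv_mem hn) F.nice_z
  rwa [show n⁻¹ * F.z * n⁻¹⁻¹ = F.c₀ by rw [← h, show F.c₀ = F.v e₀ from rfl]; group] at h2

/-- weak closure of the pair -/
theorem pair_closed {g : G} (hg : g ∈ F.Cb) (hgT : g * F.c₀ * g⁻¹ ∈ (F.T : Subgroup G)) :
    g * F.c₀ * g⁻¹ = F.c₀ ∨ g * F.c₀ * g⁻¹ = F.c₀ * F.b := by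
  have hgb : g * F.b * g⁻¹ = F.b := by rw [mem_centralizer_singleton_iff.1 hg, mul_inv_cancel_right]
  have hc1 : F.c₀ ≠ 1 := F.v_ne_one pair_orbit.2.1 pair_orbit.2.2.1
  obtain ⟨f, hf⟩ := F.v_surj _ (F.closed (F.v_mem e₀) hc1 g hgT)
  have hf' : F.v f = g * F.c₀ * g⁻¹ := hf
  have hfb : F.v (f + e₀₁) = g * F.v (e₀ + e₀₁) * g⁻¹ := by
    rw [F.v_mul, F.v_mul, hf', show F.v e₀ = F.c₀ from rfl]
    nth_rewrite 1 [show F.v e₀₁ = g * F.b * g⁻¹ from hgb.symm]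
    group
  have hf0 : F.v f ≠ 1 := by rw [hf']; exact fun e => hc1 (conj_eq_one_iff.1 e)
  have hfb0 : F.v (f + e₀₁) ≠ 1 := by
    rw [hfb]; exact fun e => F.v_ne_one pair_orbit.2.2.2.2.1 pair_orbit.2.2.2.2.2.1 (conj_eq_one_iff.1 e)
  have f0 : f ≠ 0 ∧ f ≠ 1 := ⟨fun e => hf0 (e ▸ F.v_zero), fun e => hf0 (e ▸ F.v_one)⟩
  have fb0 : f + e₀₁ ≠ 0 ∧ f + e₀₁ ≠ 1 :=
    ⟨fun e => hfb0 (by rw [e]; exact F.v_zero), fun e => hfb0 (by rw [e]; exact F.v_one)⟩
  have s1 : IsSingle f := (F.single_iff f0.1 f0.2).1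
    (((F.single_iff pair_orbit.2.1 pair_orbit.2.2.1).2 pair_orbit.2.2.2.1).trans (isConj_iff.2 ⟨g, hf'.symm⟩))
  have s2 : IsSingle (f + e₀₁) := (F.single_iff fb0.1 fb0.2).1
    (((F.single_iff pair_orbit.2.2.2.2.1 pair_orbit.2.2.2.2.2.1).2 pair_orbit.2.2.2.2.2.2.1).trans
      (isConj_iff.2 ⟨g, hfb.symm⟩))
  rcases pair_isolated f fb0.1 fb0.2 s1 s2 with h | h
  · exact Or.inl (hf'.symm.trans (F.v_eq_iff.2 h))
  · exact Or.inr (hf'.symm.trans ((F.v_eq_iff.2 h).trans (F.v_mul _ _)))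

theorem sylow_Cb : ¬ 2 ∣ (((F.T : Subgroup G) ⊓ F.Cb).subgroupOf F.Cb).index := by
  haveI : Fact (Nat.Prime 2) := ⟨Nat.prime_two⟩
  set R := (F.T : Subgroup G) ⊓ F.Cb with hR
  have hR32 : 32 ≤ Nat.card R := by
    obtain ⟨i, -, hi⟩ := (Nat.dvd_prime_pow Nat.prime_two).1
      (show Nat.card R ∣ 2 ^ 6 by rw [show (2 : ℕ) ^ 6 = 64 from rfl, ← F.card_T]; exact card_dvd_of_le inf_le_left)
    have hlt : 16 < Nat.card R := by
      rw [← F.card]
      refine lt_of_le_of_ne (Nat.le_of_dvd Nat.card_pos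
        (card_dvd_of_le (le_inf F.le_syl (F.A_le_cent (F.v_mem _))))) fun e => ?_
      have h : F.A = R := Subgroup.eq_of_le_of_card_ge (le_inf F.le_syl (F.A_le_cent (F.v_mem _))) e.ge
      have h2 := F.perm_of_mem (h.symm.le ⟨F.x_spec.1, F.x_cent_b⟩)
      rw [F.x_spec.2.1] at h2
      exact vec_facts.2.2.2.2.2.2.2 h2
    rw [hi] at hlt ⊢
    rcases Nat.lt_or_ge i 5 with h | h
    · have h' := Nat.pow_le_pow_right (show 1 ≤ 2 by norm_num) (show i ≤ 4 by omega)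
      norm_num at h'
      omega
    · calc (32 : ℕ) = 2 ^ 5 := by norm_num
        _ ≤ 2 ^ i := Nat.pow_le_pow_right (by norm_num) h
  set R' := R.subgroupOf F.Cb with hR'
  have hR'c : Nat.card R' = Nat.card R := Nat.card_congr (subgroupOfEquivOfLe inf_le_right).toEquiv
  obtain ⟨P, hP⟩ := (show IsPGroup 2 R' from
    (F.T.2.to_le inf_le_left).of_equiv (subgroupOfEquivOfLe inf_le_right).symm).exists_le_sylow
  suffices h : (P : Subgroup F.Cb) = R' by rw [← h]; exact P.not_dvd_index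
  refine (Subgroup.eq_of_le_of_card_ge hP ?_).symm
  rw [hR'c]
  refine le_trans ?_ hR32
  by_contra hlt
  push Not at hlt
  set P' := (P : Subgroup F.Cb).map F.Cb.subtype with hP'
  have hP'c : Nat.card P' = Nat.card (P : Subgroup F.Cb) := card_map_of_injective (subtype_injective _)
  obtain ⟨k, hk⟩ := exists_conj_le_sylow (P.2.map F.Cb.subtype) F.T
  have hle : P'.map (MulAut.conj k).toMonoidHom ≤ (F.T : Subgroup G) := by
    rintro _ ⟨a, ha, rfl⟩; exact hk a ha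
  have heq : P'.map (MulAut.conj k).toMonoidHom = (F.T : Subgroup G) := by
    refine Subgroup.eq_of_le_of_card_ge hle ?_
    have hd := card_dvd_of_le hle
    rw [card_map_of_injective (MulAut.conj k).injective, F.card_T, hP'c] at hd ⊢
    obtain ⟨i, -, hi⟩ := (Nat.dvd_prime_pow Nat.prime_two).1 (show _ ∣ 2 ^ 6 from hd)
    rw [hi] at hlt ⊢
    rcases Nat.lt_or_ge i 6 with h | h
    · have h' := Nat.pow_le_pow_right (show 1 ≤ 2 by norm_num) (show i ≤ 5 by omega)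
      norm_num at h'
      omega
    · calc (64 : ℕ) = 2 ^ 6 := by norm_num
        _ ≤ 2 ^ i := Nat.pow_le_pow_right (by norm_num) h
  have hbP : F.b ∈ P' := ⟨⟨F.b, mem_centralizer_singleton_iff.2 rfl⟩,
    hP ⟨F.le_syl (F.v_mem _), mem_centralizer_singleton_iff.2 rfl⟩, rfl⟩
  rcases F.central_eq (hk F.b hbP) (fun t ht => by
    obtain ⟨a, ha, rfl⟩ := heq.symm.le ht
    have hab : a * F.b = F.b * a := by
      obtain ⟨a', -, rfl⟩ := ha
      exact mem_centralizer_singleton_iff.1 a'.2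
    show k * F.b * k⁻¹ * (k * a * k⁻¹) = k * a * k⁻¹ * (k * F.b * k⁻¹)
    calc k * F.b * k⁻¹ * (k * a * k⁻¹) = k * (F.b * a) * k⁻¹ := by group
      _ = k * (a * F.b) * k⁻¹ := by rw [hab]
      _ = _ := by group) with e | e
  · exact F.b_ne (conj_eq_one_iff.1 e)
  · exact F.distinct.1 (isConj_iff.2 ⟨k, e⟩).symm

/-- the pair is fixed modulo the core -/
theorem factor_pair {g : G} (hg : g ∈ F.Cb) :
    ∃ o ∈ OC F.Cb, o * g * F.c₀ * (o * g)⁻¹ = F.c₀ ∨ o * g * F.c₀ * (o * g)⁻¹ = F.c₀ * F.b := by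
  haveI : Fact (Nat.Prime 2) := ⟨Nat.prime_two⟩
  set C := F.Cb with hC
  have hbC : F.b ∈ C := mem_centralizer_singleton_iff.2 rfl
  have hcC : F.c₀ ∈ C := F.A_le_cent (F.v_mem _) (F.v_mem _)
  have hzb : ∀ a, a ∈ zpowers F.b → a = 1 ∨ a = F.b := fun a ha =>
    CfsgLib.ProdFusion.mem_zpowers_invol (F.sq (F.v_mem _)) ha
  set Zs := (zpowers F.b).subgroupOf C with hZs
  haveI : Zs.Normal := ⟨fun a ha k => by
    rw [hZs, mem_subgroupOf] at ha ⊢
    rcases hzb _ ha with e | e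
    · push_cast
      rw [e, mul_one, mul_inv_cancel]; exact one_mem _
    · push_cast
      rw [e, mem_centralizer_singleton_iff.1 k.2, mul_inv_cancel_right]; exact mem_zpowers _⟩
  set q := QuotientGroup.mk' Zs with hq
  have hqs : Function.Surjective q := QuotientGroup.mk'_surjective Zs
  have hqk : ∀ a : C, q a = 1 ↔ (a : G) ∈ zpowers F.b := fun a => QuotientGroup.eq_one_iff a
  set R := ((F.T : Subgroup G) ⊓ C).subgroupOf C with hR
  have hbR : Zs ≤ R := comap_mono (zpowers_le.2 ⟨F.le_syl (F.v_mem _), hbC⟩)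
  have hker : q.ker ≤ R := by rw [hq, QuotientGroup.ker_mk']; exact hbR
  let P : Sylow 2 (C ⧸ Zs) :=
    (((F.T.2.to_le inf_le_left).of_equiv (subgroupOfEquivOfLe inf_le_right).symm).map q).toSylow
      (show ¬ 2 ∣ (R.map q).index by rw [index_map_eq R hqs hker]; exact F.sylow_Cb)
  have hord : orderOf (q ⟨F.c₀, hcC⟩) = 2 := by
    refine invol_iff.2 ⟨?_, fun e => ?_⟩
    · rw [← map_mul, hqk]
      push_cast
      rw [F.sq (a := F.c₀) (F.v_mem e₀)]; exact one_mem _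
    · rcases hzb _ ((hqk _).1 e) with e | e
      · exact F.v_ne_one pair_orbit.2.1 pair_orbit.2.2.1 e
      · have h := F.chi_c₀
        rw [show F.c₀ = F.b from e, F.chi_v, core_facts.1] at h
        exact zero_ne_one h
  have hcent := zstar_of_weakly_closed P hord (fun m hm => by
    obtain ⟨m, rfl⟩ := hqs m
    rw [← map_inv, ← map_mul, ← map_mul] at hm ⊢
    obtain ⟨a, ha, hae⟩ := hm
    have h1 : a⁻¹ * (m * ⟨F.c₀, hcC⟩ * m⁻¹) ∈ R := hker (by
      rw [MonoidHom.mem_ker, map_mul, map_inv, hae, inv_mul_cancel])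
    have h2 := R.mul_mem ha h1
    rw [mul_inv_cancel_left] at h2
    rcases F.pair_closed m.2 h2.1 with e | e
    · exact congrArg q (Subtype.ext e)
    · rw [show m * ⟨F.c₀, hcC⟩ * m⁻¹ = ⟨F.c₀, hcC⟩ * ⟨F.b, hbC⟩ from Subtype.ext e, map_mul,
        (hqk ⟨F.b, hbC⟩).2 (mem_zpowers F.b), mul_one])
  set P₀ : Subgroup G := ((Cfsg.pPrimeCore 2 (C ⧸ Zs)).comap q).map C.subtype with hP₀
  haveI : (Cfsg.pPrimeCore 2 (C ⧸ Zs)).Normal := by
    haveI := CfsgLib.Coprime.pPrimeCore_characteristic (G := C ⧸ Zs) 2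
    infer_instance
  have hP₀C : P₀ ≤ C := map_subtype_le _
  have hmem : F.c₀ * g * F.c₀⁻¹ * g⁻¹ ∈ P₀ := by
    refine ⟨⟨F.c₀, hcC⟩ * ⟨g, hg⟩ * ⟨F.c₀, hcC⟩⁻¹ * ⟨g, hg⟩⁻¹, ?_, rfl⟩
    rw [SetLike.mem_coe, mem_comap]
    simp only [map_mul, map_inv]
    exact hcent (q ⟨g, hg⟩)
  have hle : zpowers F.b ≤ P₀ := zpowers_le.2 ⟨⟨F.b, hbC⟩, by
    rw [SetLike.mem_coe, mem_comap, (hqk _).2 (mem_zpowers F.b)]; exact one_mem _, rfl⟩
  have hidx : ¬ 2 ∣ ((zpowers F.b).subgroupOf P₀).index := by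
    show ¬ 2 ∣ (zpowers F.b).relIndex P₀
    rw [hP₀, ← relIndex_comap, show (zpowers F.b).comap C.subtype = q.ker by
      rw [hq, QuotientGroup.ker_mk']; rfl, relIndex_ker, map_comap_eq_self_of_surjective hqs]
    exact CfsgLib.Coprime.pPrimeCore_not_dvd Nat.prime_two
  obtain ⟨a, ha, d, hd, had⟩ := decomp_in hle (IsPGroup.of_card (n := 1)
    (by rw [Nat.card_zpowers, F.b_ord, pow_one])) hidx (fun n hn _ => mem_centralizer_iff.2 fun c hc => by
      rcases hzb _ hc with rfl | rfl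
      · rw [one_mul, mul_one]
      · exact (mem_centralizer_singleton_iff.1 (hP₀C hn)).symm) hmem
  have hdO : d ∈ OC C := by
    refine OC_le_OC hP₀C ?_ hd
    intro k hk
    refine CfsgLib.ProdFusion.mem_of_forall_conj_mem ?_
    rintro _ ⟨c, hc, rfl⟩
    exact ⟨⟨k, hk⟩ * c * ⟨k, hk⟩⁻¹,
      (inferInstance : ((Cfsg.pPrimeCore 2 (C ⧸ Zs)).comap q).Normal).conj_mem c hc _, rfl⟩
  have hcA : F.c₀ ∈ F.A := F.v_mem _
  have hab : a ∈ F.A := (zpowers_le.2 (F.v_mem e₀₁)) ha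
  set c' := a * F.c₀ with hc'
  have hc'A : c' ∈ F.A := F.A.mul_mem hab hcA
  have hc'2 : c' * c' = 1 := F.sq hc'A
  have hcase : c' = F.c₀ ∨ c' = F.c₀ * F.b := by
    rcases hzb _ ha with rfl | rfl
    · exact Or.inl (one_mul _)
    · exact Or.inr (F.comm (F.v_mem _) hcA)
  have hc'1 : c' ≠ 1 := by
    rcases hcase with e | e <;> rw [e]
    · exact F.v_ne_one pair_orbit.2.1 pair_orbit.2.2.1
    · rw [show F.c₀ * F.b = F.v (e₀ + e₀₁) from (F.v_mul _ _).symm]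
      exact F.v_ne_one pair_orbit.2.2.2.2.1 pair_orbit.2.2.2.2.2.1
  set u := g * F.c₀ * g⁻¹ with hu
  have hu2 : orderOf u = 2 := invol_conj (invol_iff.2 ⟨F.sq hcA, F.v_ne_one pair_orbit.2.1 pair_orbit.2.2.1⟩) g
  have hud : c' * u = d := by
    have hu' : u = c' * d := by
      calc u = F.c₀ * (F.c₀ * g * F.c₀⁻¹ * g⁻¹) := by
            rw [hu, F.inv hcA, ← mul_assoc, ← mul_assoc, ← mul_assoc, F.sq hcA, one_mul]
        _ = F.c₀ * (a * d) := by rw [had]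
        _ = c' * d := by rw [← mul_assoc, F.comm hcA hab]
    rw [hu', ← mul_assoc, hc'2, one_mul]
  obtain ⟨w, hw, hwe⟩ := exists_conj_eq_of_odd (invol_iff.2 ⟨hc'2, hc'1⟩) hu2
    (by rw [hud]; exact CfsgLib.ProdFusion.odd_orderOf_of_mem (odd_card_OC _) hdO)
  have hwO : w ∈ OC C := by
    rw [hud] at hw
    exact (zpowers_le.2 hdO) hw
  refine ⟨w⁻¹, inv_mem hwO, ?_⟩
  have e : w⁻¹ * g * F.c₀ * (w⁻¹ * g)⁻¹ = c' := by
    calc w⁻¹ * g * F.c₀ * (w⁻¹ * g)⁻¹ = w⁻¹ * (g * F.c₀ * g⁻¹) * w := by group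
      _ = w⁻¹ * (w * c' * w⁻¹) * w := by rw [hwe]
      _ = c' := by group
  rcases hcase with h | h
  · exact Or.inl (e.trans h)
  · exact Or.inr (e.trans h)

/-- the odd core of the stabiliser of the pair -/
abbrev X : Subgroup G := OC (centralizer ({F.c₀} : Set G)) ⊓ F.Cb

theorem X_le_core : F.X ≤ OC F.Cb := by
  have hcA : F.c₀ ∈ F.A := F.v_mem _
  have hXodd : Odd (Nat.card F.X) := CfsgLib.ProdFusion.odd_of_le inf_le_left (odd_card_OC _)
  have hXc : ∀ k ∈ centralizer ({F.c₀} : Set G), k ∈ F.Cb → k ∈ normalizer (F.X : Set G) := fun k hk hkb =>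
    CfsgLib.ProdFusion.mem_of_forall_conj_mem fun t ht =>
      ⟨(mem_normalizer_iff.1 (le_normalizer_OC_self _ hk) t).1 ht.1,
        F.Cb.mul_mem (F.Cb.mul_mem hkb ht.2) (F.Cb.inv_mem hkb)⟩
  have hxX : F.x ∈ normalizer (F.X : Set G) := by
    rw [← CfsgLib.Coprime.conjBy_eq_self_iff]
    refine Subgroup.eq_of_le_of_card_ge ?_ (CfsgLib.Coprime.card_conjBy _ _).ge
    refine le_inf ?_ ?_
    · refine F.nice_c₀.le F.A2 (F.A_le_cent hcA) F.cent hcA ?_ (by rw [CfsgLib.Coprime.card_conjBy]; exact hXodd) ?_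
      · rintro _ ⟨t, ht, rfl⟩
        refine mem_centralizer_singleton_iff.2 ?_
        have h1 := mem_centralizer_singleton_iff.1 (OC_le _ ht.1)
        have h2 := mem_centralizer_singleton_iff.1 ht.2
        have hxi : F.x⁻¹ = F.x := inv_eq_of_mul_eq_one_right F.x_spec.2.2
        have e : F.x⁻¹ * F.c₀ * F.x = F.c₀ * F.b := by
          have h := F.x_conj_c
          rw [hxi] at h ⊢
          exact h
        show F.x * t * F.x⁻¹ * F.c₀ = F.c₀ * (F.x * t * F.x⁻¹)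
        calc F.x * t * F.x⁻¹ * F.c₀ = F.x * (t * (F.x⁻¹ * F.c₀ * F.x)) * F.x⁻¹ := by group
          _ = F.x * (F.c₀ * F.b * t) * F.x⁻¹ := by
            have h3 : t * (F.c₀ * F.b) = F.c₀ * F.b * t :=
              ((show Commute t F.c₀ from h1).mul_right (show Commute t F.b from h2)).eq
            rw [e, h3]
          _ = F.x * (F.x⁻¹ * F.c₀ * F.x * t) * F.x⁻¹ := by rw [e]
          _ = F.c₀ * (F.x * t * F.x⁻¹) := by group
      · rintro c hc _ ⟨t, ht, rfl⟩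
        have hc' : F.x⁻¹ * c * F.x ∈ F.A :=
          (mem_normalizer_iff''.1 (F.le_norm F.x_spec.1) c).1 hc
        refine ⟨F.x⁻¹ * c * F.x * t * (F.x⁻¹ * c * F.x)⁻¹,
          (mem_normalizer_iff.1 (hXc _ (F.A_le_cent hcA hc') (F.A_le_cent (F.v_mem _) hc')) t).1 ht, ?_⟩
        show F.x * (F.x⁻¹ * c * F.x * t * (F.x⁻¹ * c * F.x)⁻¹) * F.x⁻¹ = c * (F.x * t * F.x⁻¹) * c⁻¹
        group
    · rintro _ ⟨t, ht, rfl⟩
      exact F.Cb.mul_mem (F.Cb.mul_mem F.x_cent_b ht.2) (F.Cb.inv_mem F.x_cent_b)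
  have hO : F.Cb ≤ normalizer (OC F.Cb : Set G) := le_normalizer_OC_self _
  have h1 : F.X ⊔ OC F.Cb ≤ OC F.Cb := le_OC (sup_le inf_le_right (OC_le _))
    (odd_sup (inf_le_right.trans hO) hXodd (odd_card_OC _)) (fun g hg => by
      obtain ⟨o, ho, h⟩ := F.factor_pair hg
      have hog : o * g ∈ F.Cb := F.Cb.mul_mem (OC_le _ ho) hg
      have e : g = o⁻¹ * (o * g) := by group
      rw [e]
      refine mul_mem (le_normalizer (mem_sup_right (inv_mem ho))) ?_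
      have hX : o * g ∈ normalizer (F.X : Set G) := by
        rcases h with h | h
        · exact hXc _ (mem_centralizer_singleton_iff.2 (mul_inv_eq_iff_eq_mul.1 h)) hog
        · have hk : F.x⁻¹ * (o * g) ∈ centralizer ({F.c₀} : Set G) := mem_centralizer_singleton_iff.2 (by
            calc F.x⁻¹ * (o * g) * F.c₀ = F.x⁻¹ * (o * g * F.c₀ * (o * g)⁻¹) * (o * g) := by group
              _ = F.x⁻¹ * (F.x * F.c₀ * F.x⁻¹) * (o * g) := by rw [h, F.x_conj_c]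
              _ = F.c₀ * (F.x⁻¹ * (o * g)) := by group)
          have h2 := mul_mem hxX (hXc _ hk (F.Cb.mul_mem (F.Cb.inv_mem F.x_cent_b) hog))
          rwa [mul_inv_cancel_left] at h2
      have e1 := CfsgLib.Coprime.conjBy_eq_self_iff.2 (hO hog)
      have e2 : CfsgLib.Coprime.conjBy (o * g) F.X = F.X := CfsgLib.Coprime.conjBy_eq_self_iff.2 hX
      rw [← CfsgLib.Coprime.conjBy_eq_self_iff]
      simp only [CfsgLib.Coprime.conjBy, Subgroup.map_sup] at e1 e2 ⊢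
      rw [e1, e2])
  exact le_sup_left.trans h1

/-- **the centraliser of `b` is factorised** -/
theorem nice_b : Nice F.A F.b := by
  have hcA : F.c₀ ∈ F.A := F.v_mem _
  have key : ∀ k ∈ centralizer ({F.c₀} : Set G), k ∈ F.Cb →
      ∃ o ∈ OC F.Cb, ∃ n ∈ F.N ⊓ F.Cb, k = o * n := by
    intro k hk hkb
    obtain ⟨o, ho, n, hn, he⟩ := F.nice_c₀ k hk
    have hbA : F.b ∈ F.A := F.v_mem _
    set b' := n * F.b * n⁻¹ with hb'
    have hb'A : b' ∈ F.A := (mem_normalizer_iff.1 hn.1 _).1 hbA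
    have hkb' : k * F.b * k⁻¹ = F.b := by rw [mem_centralizer_singleton_iff.1 hkb, mul_inv_cancel_right]
    have hob : o * b' * o⁻¹ = F.b := by rw [← hkb', he, hb']; group
    have hoO : b' * F.b ∈ OC (centralizer ({F.c₀} : Set G)) := by
      have e : b' * F.b = (b' * o * b'⁻¹) * o⁻¹ := by
        rw [← hob, F.inv hb'A]; group
      rw [e]
      exact mul_mem ((mem_normalizer_iff.1 (le_normalizer_OC_self _ (F.A_le_cent hcA hb'A)) o).1 ho) (inv_mem ho)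
    have h1 := CfsgLib.ProdFusion.eq_one_of_sq (odd_card_OC _) hoO (F.sq (F.A.mul_mem hb'A hbA))
    have hbb : b' = F.b := by rw [mul_eq_one_iff_eq_inv.1 h1, F.inv hbA]
    have hnb : n ∈ F.Cb := mem_centralizer_singleton_iff.2 (mul_inv_eq_iff_eq_mul.1 hbb)
    have hob' : o ∈ F.Cb := by
      have := F.Cb.mul_mem hkb (F.Cb.inv_mem hnb)
      rwa [he, mul_inv_cancel_right] at this
    exact ⟨o, F.X_le_core ⟨ho, hob'⟩, n, ⟨hn.1, hnb⟩, he⟩
  intro g hg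
  obtain ⟨o, ho, h⟩ := F.factor_pair hg
  have hog : o * g ∈ F.Cb := F.Cb.mul_mem (OC_le _ ho) hg
  rcases h with h | h
  · obtain ⟨o', ho', n, hn, he⟩ := key _ (mem_centralizer_singleton_iff.2 (mul_inv_eq_iff_eq_mul.1 h)) hog
    exact ⟨o⁻¹ * o', mul_mem (inv_mem ho) ho', n, hn, by rw [mul_assoc, ← he]; group⟩
  · obtain ⟨o', ho', n, hn, he⟩ := key (F.x⁻¹ * (o * g)) (mem_centralizer_singleton_iff.2 (by
      calc F.x⁻¹ * (o * g) * F.c₀ = F.x⁻¹ * (o * g * F.c₀ * (o * g)⁻¹) * (o * g) := by group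
        _ = F.x⁻¹ * (F.x * F.c₀ * F.x⁻¹) * (o * g) := by rw [h, F.x_conj_c]
        _ = F.c₀ * (F.x⁻¹ * (o * g)) := by group)) (F.Cb.mul_mem (F.Cb.inv_mem F.x_cent_b) hog)
    refine ⟨o⁻¹ * (F.x * o' * F.x⁻¹), mul_mem (inv_mem ho)
      ((mem_normalizer_iff.1 (le_normalizer_OC_self _ F.x_cent_b) o').1 ho'), F.x * n,
      (F.N ⊓ F.Cb).mul_mem ⟨F.le_norm F.x_spec.1, F.x_cent_b⟩ hn, ?_⟩
    calc g = o⁻¹ * F.x * (F.x⁻¹ * (o * g)) := by group
      _ = o⁻¹ * F.x * (o' * n) := by rw [he]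
      _ = _ := by group

theorem nice_all {a : G} (ha : a ∈ F.A) (ha1 : a ≠ 1) : Nice F.A a := by
  obtain ⟨f, rfl⟩ := F.v_surj a ha
  obtain ⟨n, hn, h⟩ := F.conj_rep (f := f) (fun e => ha1 (e ▸ F.v_zero)) (fun e => ha1 (e ▸ F.v_one))
  split_ifs at h
  · have h2 := Nice.conj (F.N.inv_mem hn) F.nice_z
    rwa [show n⁻¹ * F.z * n⁻¹⁻¹ = F.v f by rw [← h]; group] at h2
  · have h2 := Nice.conj (F.N.inv_mem hn) F.nice_b
    rwa [show n⁻¹ * F.b * n⁻¹⁻¹ = F.v f by rw [← h]; group] at h2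

/-- **`A` is normal modulo the odd core** -/
theorem sup_normal : (F.A ⊔ Cfsg.oddCore G).Normal := by
  have hfac := factor_of_nice F.T F.elem (by rw [F.card]; norm_num) F.le_norm
    (fun a ha ha1 g hg => F.closed ha ha1 g hg) (fun a ha g hg => F.fusion ha g hg) F.cent
    (fun a ha ha1 => F.nice_all ha ha1) (F.v_mem e₄) F.z_ne (F.v_mem e₀₁) F.b_ne F.distinct.1
  haveI : (Cfsg.oddCore G).Normal := by
    haveI := CfsgLib.Coprime.pPrimeCore_characteristic (G := G) 2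
    infer_instance
  refine normalizer_eq_top_iff.1 (eq_top_iff.2 fun g _ => ?_)
  obtain ⟨o, ho, n, hn, rfl⟩ := hfac g
  refine mul_mem (le_normalizer (mem_sup_right ho)) ?_
  rw [← CfsgLib.Coprime.conjBy_eq_self_iff]
  have e1 := CfsgLib.Coprime.conjBy_eq_self_iff.2 hn
  have e2 : CfsgLib.Coprime.conjBy n (Cfsg.oddCore G) = Cfsg.oddCore G :=
    CfsgLib.Coprime.conjBy_eq_self_iff.2 (((normalizer_eq_top_iff (H := Cfsg.oddCore G)).2 inferInstance).symm ▸ mem_top n)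
  simp only [CfsgLib.Coprime.conjBy, Subgroup.map_sup] at e1 e2 ⊢
  rw [e1, e2]

end Frame

end CfsgLib.Invol.EightTypeThree
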