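import Cfsg.Agent.Lib.Invol.EightTypeThree.SylowData

/-!
# The Sylow two-subgroups of the alternating group of degree eight: order and centre
-/

set_option autoImplicit false
set_option linter.style.haveILetI false

namespace CfsgLib.Invol.EightTypeThree

open Equiv

theorem card_alt_eight : Nat.card ↥(alternatingGroup (Fin 8)) = 20160 := by
  have h := two_mul_card_alternatingGroup (α := Fin 8)
  rw [Fintype.card_perm, Fintype.card_fin] at h
  have h8 : (8 : ℕ).factorial = 40320 := rfl
  rw [h8] at h
  rw [Nat.card_eq_fintype_card]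
  omega

/-- the order is sixty-four and the centre has at most two elements -/
theorem sylow_facts (P : Sylow 2 ↥(alternatingGroup (Fin 8))) :
    Nat.card ↥(P : Subgroup ↥(alternatingGroup (Fin 8))) = 64 ∧
      ∀ a b : ↥(P : Subgroup ↥(alternatingGroup (Fin 8))), a ≠ 1 → b ≠ 1 →
        (∀ c, a * c = c * a) → (∀ c, b * c = c * b) → a = b := by
  classical
  haveI : Fact (Nat.Prime 2) := ⟨Nat.prime_two⟩
  obtain ⟨h1, hmul, hcard, hsgn, hcen⟩ := sylList_facts
  let R : Subgroup Q8 :=
    subgroupOfIdempotent {g : Q8 | g ∈ sylList} ⟨1, h1⟩ (by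
      ext g
      refine ⟨?_, fun hg => ⟨1, h1, g, hg, one_mul g⟩⟩
      rintro ⟨a, ha, b, hb, rfl⟩
      exact hmul a ha b hb)
  have hR : ∀ g, g ∈ R ↔ g ∈ sylList := fun g => Iff.rfl
  have hRA : R ≤ alternatingGroup (Fin 8) := fun g hg => Perm.mem_alternatingGroup.2 (hsgn g hg)
  have hRcard : Nat.card R = 64 := by
    rw [← hcard, ← Nat.card_eq_finsetCard]
    exact Nat.card_congr (Equiv.subtypeEquivRight fun g => (hR g).trans List.mem_toFinset.symm)
  set R' := R.subgroupOf (alternatingGroup (Fin 8)) with hR'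
  have hR'card : Nat.card R' = 2 ^ 6 := by
    rw [Nat.card_congr (Subgroup.subgroupOfEquivOfLe hRA).toEquiv, hRcard]; rfl
  have hidx : ¬ 2 ∣ R'.index := by
    have h := R'.card_mul_index
    rw [hR'card, card_alt_eight] at h
    omega
  let S := (IsPGroup.of_card hR'card).toSylow hidx
  let e : ↥(P : Subgroup ↥(alternatingGroup (Fin 8))) ≃* ↥R := (Sylow.equiv P S).trans
    (Subgroup.subgroupOfEquivOfLe hRA)
  refine ⟨by rw [Nat.card_congr e.toEquiv, hRcard], fun a b ha hb hca hcb => ?_⟩
  have key : ∀ c, c ≠ 1 → (∀ d, c * d = d * c) →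
      ((e c : R) : Q8) = swap 0 1 * swap 2 3 * swap 4 5 * swap 6 7 := by
    intro c hc hcc
    refine (hcen _ ((hR _).1 (e c).2) fun d hd => ?_).resolve_left fun h => hc (e.injective ?_)
    · have := congrArg e (hcc (e.symm ⟨d, (hR d).2 hd⟩))
      rw [map_mul, map_mul, e.apply_symm_apply] at this
      exact congrArg Subtype.val this
    · rw [map_one]; exact Subtype.ext h
  exact e.injective (Subtype.ext ((key a ha hca).trans (key b hb hcb).symm))

end CfsgLib.Invol.EightTypeThree
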