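import Cfsg.Agent.Lib.Invol.EightTypeThree.TransferZ

/-!
# The centraliser of a central involution is factorised
-/

set_option autoImplicit false
set_option linter.unusedSectionVars false
set_option linter.style.haveILetI false
set_option synthInstance.maxSize 4000
set_option synthInstance.maxHeartbeats 80000

namespace CfsgLib.Invol.EightTypeThree

open Subgroup CfsgLib.Invol Equiv
open CfsgLib.ProdFusion (OC OC_le OC_le_OC le_OC odd_card_OC le_normalizer_OC le_normalizer_OC_self)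

universe u

theorem third_coset : ∀ w : M5, par w = 0 → ¬ Eqv w 0 → ¬ Eqv w e₄ → ∀ f : M5, par f = 0 →
    ¬ Eqv f 0 → ¬ Eqv f e₄ → ¬ Eqv f w → ¬ Eqv f (w + e₄) → ∀ g : M5, par g = 0 →
    ¬ Eqv g 0 → ¬ Eqv g e₄ → ¬ Eqv g w → ¬ Eqv g (w + e₄) →
    Eqv (f + g) 0 ∨ Eqv (f + g) e₄ ∨ Eqv (f + g) w ∨ Eqv (f + g) (w + e₄) := by decide +kernel

theorem fixed_in_core : ∀ σ ∈ fourList, σ ≠ 1 → ∃ w : M5, par w = 0 ∧ ¬ Eqv w 0 ∧ ¬ Eqv w e₄ ∧
    Eqv (act σ w) w ∧ ∀ f : M5, par f = 0 → Eqv (act σ f) f →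
      Eqv f 0 ∨ Eqv f e₄ ∨ Eqv f w ∨ Eqv f (w + e₄) := by decide +kernel

theorem faithful_core : ∀ σ ∈ fourList, ∀ τ ∈ fourList,
    (∀ f : M5, par f = 0 → Eqv (act σ f) (act τ f)) → σ = τ := by decide +kernel

theorem complements_conj : ∀ f : M5, par f = 0 → Eqv (act s₁ f) f → ∀ g : M5, par g = 0 → Eqv (act s₂ g) g →
    Eqv (act s₂ f + g) (act s₁ g + f) →
    ∃ a : M5, Eqv (a + act s₁ a) f ∧ Eqv (a + act s₂ a) g := by decide +kernel

theorem core_facts : par e₀₁ = 0 ∧ ¬ Eqv e₀₁ 0 ∧ ¬ Eqv e₀₁ e₄ := by decide +kernel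

theorem act_swap_flip : ∀ a : M5, act (1 : P5) a = a := by decide +kernel

variable {G : Type u} [Group G] [Finite G]

theorem commute_of_sq_commute {h t : G} (ho : Odd (orderOf h)) (hc : Commute (h * h) t) : Commute h t := by
  obtain ⟨k, hk⟩ := ho
  have e : h = (h * h) ^ (k + 1) := by
    rw [← pow_two, ← pow_mul, show 2 * (k + 1) = (2 * k + 1) + 1 by ring, pow_succ, ← hk, pow_orderOf_eq_one,
      one_mul]
  rw [e]
  exact hc.pow_left _

/-- an odd element moving `t` by a fixed involution fixes it -/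
theorem commute_of_shift {h t k : G} (ho : Odd (orderOf h)) (hk : k * k = 1) (hhk : Commute h k)
    (he : h * t * h⁻¹ = t * k) : Commute h t := by
  refine commute_of_sq_commute ho (mul_inv_eq_iff_eq_mul.1 ?_)
  calc h * h * t * (h * h)⁻¹ = h * (h * t * h⁻¹) * h⁻¹ := by group
    _ = h * (t * k) * h⁻¹ := by rw [he]
    _ = (h * t * h⁻¹) * (h * k * h⁻¹) := by group
    _ = t := by rw [he, hhk.eq, mul_inv_cancel_right, mul_assoc, hk, mul_one]

namespace Frame

variable (F : Frame G)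

abbrev Cz : Subgroup G := centralizer ({F.z} : Set G)

theorem commute_z {h : G} (hh : h ∈ F.Cz) : Commute h F.z := mem_centralizer_singleton_iff.1 hh

theorem v_mem_T1 {f : M5} (hf : par f = 0) : F.v f ∈ F.T1 := ⟨F.le_syl (F.v_mem f), by rw [F.chi_v, hf]⟩

theorem par_of_mem {f : M5} (h : F.v f ∈ F.T1) : par f = 0 := by rw [← F.chi_v]; exact h.2

theorem kf_mem_T1 {σ : P5} (hσ : σ ∈ fourList) : F.kf σ ∈ F.T1 := ⟨(F.kf_spec hσ).1, F.chi_kf hσ⟩

theorem z_mem_T1 : F.z ∈ F.T1 := F.v_mem_T1 pair_facts.2.2.2.1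

theorem x_mem_T1 : F.x ∈ F.T1 := by
  have h := F.kf_mem_T1 vec_facts.2.2.2.2.2.2.1
  rwa [F.kf_vals.2.1] at h

theorem y_mem_T1 : F.y ∈ F.T1 := by
  have h := F.kf_mem_T1 four_table.2.2.2.2.2.2.2.2.2.2.2.1
  rwa [F.kf_vals.2.2.1] at h

theorem T_le_norm_T1 : (F.T : Subgroup G) ≤ normalizer (F.T1 : Set G) := by
  intro t ht
  refine CfsgLib.ProdFusion.mem_of_forall_conj_mem fun s hs => ⟨?_, ?_⟩
  · exact (F.T : Subgroup G).mul_mem ((F.T : Subgroup G).mul_mem ht hs.1) ((F.T : Subgroup G).inv_mem ht)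
  · rw [F.chi_conj (F.T_le_cent ht) hs.1
      ((F.T : Subgroup G).mul_mem ((F.T : Subgroup G).mul_mem ht hs.1) ((F.T : Subgroup G).inv_mem ht)), hs.2]

theorem T1_le_cent : F.T1 ≤ F.Cz := F.T1_le.trans F.T_le_cent

/-- elements of the core keep to the core -/
theorem core_image {h : G} (hh : h ∈ normalizer (F.T1 : Set G)) {f : M5} (hf : par f = 0) :
    ∃ g : M5, par g = 0 ∧ h * F.v f * h⁻¹ = F.v g := by
  have h1 : h * F.v f * h⁻¹ ∈ F.T1 := (mem_normalizer_iff.1 hh _).1 (F.v_mem_T1 hf)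
  by_cases hf1 : F.v f = 1
  · exact ⟨f, hf, by rw [hf1]; group⟩
  · obtain ⟨g, hg⟩ := F.v_surj _ (F.closed (F.v_mem f) hf1 h (F.T1_le h1))
    exact ⟨g, F.par_of_mem (by rw [hg]; exact h1), hg.symm⟩

/-- an element centralising the core moves `T1` inside the cosets of the core -/
theorem shift {h : G} (hh : h ∈ normalizer (F.T1 : Set G))
    (hW : ∀ f : M5, par f = 0 → Commute h (F.v f)) {s : G} (hs : s ∈ F.T1) :
    ∃ f : M5, par f = 0 ∧ h * s * h⁻¹ = s * F.v f := by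
  have hs' : h * s * h⁻¹ ∈ F.T1 := (mem_normalizer_iff.1 hh _).1 hs
  have hsN := F.le_norm hs.1
  have hs'N := F.le_norm hs'.1
  have hp : F.perm (h * s * h⁻¹) = F.perm s := faithful_core _ (F.perm_four _ hs'.1) _ (F.perm_four _ hs.1)
    fun f hf => by
      rw [← F.v_eq_iff, ← F.conj _ hs'N, ← F.conj _ hsN]
      have e1 : h⁻¹ * F.v f * h = F.v f := by rw [mul_assoc, ← (hW f hf).eq, ← mul_assoc, inv_mul_cancel, one_mul]
      have h2 : par (act (F.perm s) f) = 0 := by rw [par_act _ (F.perm_four _ hs.1), hf]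
      have e3 := F.conj _ hsN f
      calc h * s * h⁻¹ * F.v f * (h * s * h⁻¹)⁻¹ = h * (s * (h⁻¹ * F.v f * h) * s⁻¹) * h⁻¹ := by group
        _ = h * F.v (act (F.perm s) f) * h⁻¹ := by rw [e1, e3]
        _ = F.v (act (F.perm s) f) := by rw [(hW _ h2).eq, mul_inv_cancel_right]
        _ = s * F.v f * s⁻¹ := e3.symm
  have hk : s⁻¹ * (h * s * h⁻¹) ∈ F.A := F.mem_of_perm _
    ((F.T : Subgroup G).mul_mem ((F.T : Subgroup G).inv_mem hs.1) hs'.1) (by
      rw [F.perm_mul _ (F.N.inv_mem hsN) _ hs'N, F.perm_inv hsN, hp, inv_mul_cancel])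
  obtain ⟨f, hf⟩ := F.v_surj _ hk
  exact ⟨f, F.par_of_mem (by rw [hf]; exact F.T1.mul_mem (F.T1.inv_mem hs) hs'), by rw [hf]; group⟩

theorem mem_cent_T1 {h : G} (hW : ∀ f : M5, par f = 0 → Commute h (F.v f)) (hk : ∀ σ ∈ fourList, Commute h (F.kf σ)) :
    h ∈ centralizer (F.T1 : Set G) := by
  refine mem_centralizer_iff.2 fun t ht => ?_
  obtain ⟨f, hf⟩ := F.coord ht.1
  have hp : par f = 0 := by rw [← F.chi_eq hf]; exact ht.2
  rw [hf]
  exact (((hk _ (F.perm_four t ht.1)).mul_right (hW f hp))).symm.eq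

/-- **the automisers act without fixed points** -/
theorem fix_all {h : G} (hC : h ∈ F.Cz) (ho : Odd (orderOf h)) (hn : h ∈ normalizer (F.T1 : Set G)) {t : G}
    (ht : t ∈ F.T1) (ht1 : t ≠ 1) (htz : t ≠ F.z) (he : h * t * h⁻¹ = t ∨ h * t * h⁻¹ = t * F.z) :
    h ∈ centralizer (F.T1 : Set G) := by
  have hhz := F.commute_z hC
  have hhv : Commute h t := by
    rcases he with e | e
    · exact mul_inv_eq_iff_eq_mul.1 e
    · exact commute_of_shift ho (F.sq (F.v_mem _)) hhz e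
  obtain ⟨w, hw0, hw1, hw4, hwc⟩ : ∃ w : M5, par w = 0 ∧ ¬ Eqv w 0 ∧ ¬ Eqv w e₄ ∧ Commute h (F.v w) := by
    by_cases hp : F.perm t = 1
    · obtain ⟨f, rfl⟩ := F.v_surj t (F.mem_of_perm t ht.1 hp)
      exact ⟨f, F.par_of_mem ht, fun e => ht1 (by rw [F.v_eq_iff.2 e, F.v_zero]),
        fun e => htz (F.v_eq_iff.2 e), hhv⟩
    · obtain ⟨w, hw, hw1, hw4, hwf, hwall⟩ := fixed_in_core _ (F.perm_four t ht.1) hp
      refine ⟨w, hw, hw1, hw4, ?_⟩
      obtain ⟨g, hg, hge⟩ := F.core_image hn hw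
      have hgf : Eqv (act (F.perm t) g) g := by
        rw [← F.v_eq_iff, ← F.conj t (F.le_norm ht.1), ← hge]
        have e := F.conj t (F.le_norm ht.1) w
        rw [F.v_eq_iff.2 hwf] at e
        calc t * (h * F.v w * h⁻¹) * t⁻¹ = (t * h) * F.v w * (t * h)⁻¹ := by group
          _ = (h * t) * F.v w * (h * t)⁻¹ := by rw [hhv.eq]
          _ = h * (t * F.v w * t⁻¹) * h⁻¹ := by group
          _ = h * F.v w * h⁻¹ := by rw [e]
      rcases hwall g hg hgf with e | e | e | e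
      · refine absurd (F.v_eq_iff.1 ?_) hw1
        rw [F.v_zero, ← conj_eq_one_iff (a := h), hge, F.v_eq_iff.2 e, F.v_zero]
      · refine absurd (F.v_eq_iff.1 ?_) hw4
        have e' : h * F.v w * h⁻¹ = h * F.z * h⁻¹ := by
          rw [hge, F.v_eq_iff.2 e, hhz.eq, mul_inv_cancel_right]
        exact mul_left_cancel (mul_right_cancel e')
      · exact mul_inv_eq_iff_eq_mul.1 (hge.trans (F.v_eq_iff.2 e))
      · exact commute_of_shift ho (F.sq (F.v_mem _)) hhz (by rw [hge, F.v_eq_iff.2 e, F.v_mul])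
  have hinj : ∀ a b : M5, h * F.v a * h⁻¹ = F.v b → ∀ c : M5, Commute h (F.v c) → Eqv b c → Eqv a c := by
    intro a b hab c hc hbc
    refine F.v_eq_iff.1 (mul_left_cancel (mul_right_cancel (a := h * F.v a) (b := h⁻¹) (c := h * F.v c) ?_))
    rw [hab, F.v_eq_iff.2 hbc, hc.eq, mul_inv_cancel_right]
  have c0 : Commute h (F.v 0) := by rw [F.v_zero]; exact Commute.one_right h
  have cw4 : Commute h (F.v (w + e₄)) := by rw [F.v_mul]; exact hwc.mul_right hhz
  have hW : ∀ f : M5, par f = 0 → Commute h (F.v f) := by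
    intro f hf
    by_cases f0 : Eqv f 0
    · rw [F.v_eq_iff.2 f0]; exact c0
    by_cases f4 : Eqv f e₄
    · rw [F.v_eq_iff.2 f4]; exact hhz
    by_cases fw : Eqv f w
    · rw [F.v_eq_iff.2 fw]; exact hwc
    by_cases fw4 : Eqv f (w + e₄)
    · rw [F.v_eq_iff.2 fw4]; exact cw4
    obtain ⟨g, hg, hge⟩ := F.core_image hn hf
    have hk : Commute h (F.v (f + g)) := by
      rcases third_coset w hw0 hw1 hw4 f hf f0 f4 fw fw4 g hg (fun e => f0 (hinj f g hge _ c0 e))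
        (fun e => f4 (hinj f g hge _ hhz e)) (fun e => fw (hinj f g hge _ hwc e))
        (fun e => fw4 (hinj f g hge _ cw4 e)) with e | e | e | e <;> rw [F.v_eq_iff.2 e]
      · exact c0
      · exact hhz
      · exact hwc
      · exact cw4
    refine commute_of_shift ho (F.sq (F.v_mem (f + g))) hk ?_
    rw [hge, ← F.v_mul, ← add_assoc, CharTwo.add_self_eq_zero, zero_add]
  refine mem_centralizer_iff.2 fun s hs => ?_
  obtain ⟨f, hf, hfe⟩ := F.shift hn hW hs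
  exact (commute_of_shift ho (F.sq (F.v_mem f)) (hW f hf) hfe).symm.eq

/-- the odd part of the centraliser of `T1` -/
abbrev D : Subgroup G := OC (centralizer (F.T1 : Set G))

theorem cent_T1_le : centralizer (F.T1 : Set G) ≤ F.Cz :=
  centralizer_le (Set.singleton_subset_iff.2 F.z_mem_T1)

theorem D_le : F.D ≤ F.Cz := (OC_le _).trans F.cent_T1_le

theorem cent_T1_inter {r : G} (hr : r ∈ F.T1) (hc : r ∈ centralizer (F.T1 : Set G)) : r = 1 ∨ r = F.z := by
  have hrN := F.le_norm hr.1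
  have hp : F.perm r = 1 := faithful_core _ (F.perm_four r hr.1) 1 List.mem_cons_self fun f hf => by
    rw [act_swap_flip, ← F.v_eq_iff, ← F.conj r hrN, ← mem_centralizer_iff.1 hc _ (F.v_mem_T1 hf), mul_inv_cancel_right]
  obtain ⟨f, rfl⟩ := F.v_surj r (F.mem_of_perm r hr.1 hp)
  have h1 : ∀ t ∈ F.T1, t * F.v f * t⁻¹ = F.v f := fun t ht => by
    rw [mem_centralizer_iff.1 hc t ht, mul_inv_cancel_right]
  have hx := h1 _ F.x_mem_T1
  have hy := h1 _ F.y_mem_T1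
  rw [F.conj _ (F.le_norm F.x_spec.1), F.x_spec.2.1] at hx
  rw [F.conj _ (F.le_norm F.y_spec.1), F.y_spec.2.1] at hy
  rcases center_facts f (F.v_eq_iff.1 hx) (F.v_eq_iff.1 hy) with h | h
  · exact Or.inl (by rw [F.v_eq_iff.2 h, F.v_zero])
  · exact Or.inr (F.v_eq_iff.2 h)

/-- two-elements centralising `T1` -/
theorem two_cent_T1 {r : G} (hc : r ∈ centralizer (F.T1 : Set G)) (h2 : ∃ k : ℕ, orderOf r = 2 ^ k) :
    r = 1 ∨ r = F.z := by
  haveI : Fact (Nat.Prime 2) := ⟨Nat.prime_two⟩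
  refine F.cent_T1_inter ?_ hc
  by_contra hr
  obtain ⟨j, hj⟩ := h2
  have hp : IsPGroup 2 (zpowers r) := IsPGroup.of_card (n := j) (by rw [Nat.card_zpowers, hj])
  have hle : zpowers r ≤ normalizer (F.T1 : Set G) := (zpowers_le.2 hc).trans
    (CfsgLib.Coprime.centralizer_le_normalizer_self _)
  set S1 := F.T1 ⊔ zpowers r with hS1
  have hS1p : IsPGroup 2 S1 := IsPGroup.to_sup_of_normal_left' ((F.T.2).to_le F.T1_le) hp hle
  obtain ⟨k, hk⟩ := exists_conj_le_sylow hS1p F.T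
  have hmap : S1.map (MulAut.conj k).toMonoidHom = (F.T : Subgroup G) := by
    refine Subgroup.eq_of_le_of_card_ge (by rintro _ ⟨a, ha, rfl⟩; exact hk a ha) ?_
    rw [card_map_of_injective (MulAut.conj k).injective, F.card_T]
    obtain ⟨i, hi⟩ := IsPGroup.iff_card.1 hS1p
    have hlt : 32 < Nat.card S1 := by
      rw [← F.card_T1]
      exact lt_of_le_of_ne (Nat.le_of_dvd Nat.card_pos (card_dvd_of_le le_sup_left)) fun e =>
        hr ((Subgroup.eq_of_le_of_card_ge (le_sup_left : F.T1 ≤ S1) e.ge).symm.le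
          (mem_sup_right (mem_zpowers r)))
    rw [hi] at hlt ⊢
    rcases Nat.lt_or_ge i 6 with h | h
    · have h' := Nat.pow_le_pow_right (show 1 ≤ 2 by norm_num) (show i ≤ 5 by omega)
      norm_num at h'
      omega
    · calc (64 : ℕ) = 2 ^ 6 := by norm_num
        _ ≤ 2 ^ i := Nat.pow_le_pow_right (by norm_num) h
  have central : ∀ c : G, c ∈ S1 → (∀ a ∈ F.T1, Commute c a) → Commute c r →
      k * c * k⁻¹ = 1 ∨ k * c * k⁻¹ = F.z := by
    intro c hc hca hcr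
    refine F.central_eq (hk c hc) fun t ht => ?_
    obtain ⟨a, ha, rfl⟩ := hmap.symm.le ht
    have hcc : S1 ≤ centralizer ({c} : Set G) := sup_le
      (fun a ha => mem_centralizer_singleton_iff.2 (hca a ha).symm.eq)
      (zpowers_le.2 (mem_centralizer_singleton_iff.2 hcr.symm.eq))
    show k * c * k⁻¹ * (k * a * k⁻¹) = k * a * k⁻¹ * (k * c * k⁻¹)
    calc k * c * k⁻¹ * (k * a * k⁻¹) = k * (c * a) * k⁻¹ := by group
      _ = k * (a * c) * k⁻¹ := by rw [mem_centralizer_singleton_iff.1 (hcc ha)]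
      _ = _ := by group
  have hr1 : r ≠ 1 := fun e => hr (e ▸ F.T1.one_mem)
  have hkz : k * F.z * k⁻¹ = F.z := (central F.z (mem_sup_left F.z_mem_T1)
    (fun a ha => (F.commute_z (F.T1_le_cent ha)).symm) (F.commute_z (F.cent_T1_le hc)).symm).resolve_left
    fun e => F.z_ne (conj_eq_one_iff.1 e)
  have hkr := (central r (mem_sup_right (mem_zpowers r)) (fun a ha => (mem_centralizer_iff.1 hc a ha).symm)
    (Commute.refl r)).resolve_left fun e => hr1 (conj_eq_one_iff.1 e)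
  exact hr ((mul_left_cancel (mul_right_cancel (hkr.trans hkz.symm))) ▸ F.z_mem_T1)

theorem zpowers_z {g : G} (hg : g ∈ zpowers F.z) : g = 1 ∨ g = F.z :=
  CfsgLib.ProdFusion.mem_zpowers_invol (F.sq (F.v_mem _)) hg

theorem cent_T1_decomp {r : G} (hr : r ∈ centralizer (F.T1 : Set G)) :
    ∃ c ∈ zpowers F.z, ∃ d ∈ F.D, r = c * d := by
  haveI : Fact (Nat.Prime 2) := ⟨Nat.prime_two⟩
  have hle : zpowers F.z ≤ centralizer (F.T1 : Set G) := zpowers_le.2 (mem_centralizer_iff.2 fun a ha =>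
    (F.commute_z (F.T1_le_cent ha)).eq)
  set R := (zpowers F.z).subgroupOf (centralizer (F.T1 : Set G)) with hR
  obtain ⟨P⟩ : Nonempty (Sylow 2 (centralizer (F.T1 : Set G))) := Sylow.nonempty
  have hRp : IsPGroup 2 R := (IsPGroup.of_card (n := 1)
    (by rw [Nat.card_zpowers, F.z_ord, pow_one])).of_equiv (subgroupOfEquivOfLe hle).symm
  have hPR : (P : Subgroup _) ≤ R := fun a ha => by
    obtain ⟨j, hj⟩ := orderOf_pow_two_of_mem ha
    rcases F.two_cent_T1 a.2 ⟨j, by rw [Subgroup.orderOf_coe, hj]⟩ with e | e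
    · rw [hR, mem_subgroupOf, e]; exact one_mem _
    · rw [hR, mem_subgroupOf, e]; exact mem_zpowers _
  have hidx : ¬ 2 ∣ R.index := fun h => P.not_dvd_index (h.trans (index_dvd_of_le hPR))
  exact decomp_in hle (IsPGroup.of_card (n := 1) (by rw [Nat.card_zpowers, F.z_ord, pow_one])) hidx
    (fun n hn _ => mem_centralizer_iff.2 fun a ha => by
      rcases F.zpowers_z ha with rfl | rfl
      · rw [one_mul, mul_one]
      · exact (F.commute_z (F.cent_T1_le hn)).symm.eq) hr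

/-- elements normalising `T1` and centralising its core -/
theorem core_cent {g : G} (hn : g ∈ normalizer (F.T1 : Set G))
    (hW : ∀ f : M5, par f = 0 → Commute g (F.v f)) : ∃ a ∈ F.A, ∃ d ∈ F.D, g = a * d := by
  obtain ⟨hyT, hyp, hy2, hxy⟩ := F.y_spec
  obtain ⟨hxT, hxp, hx2⟩ := F.x_spec
  have hxi : F.x⁻¹ = F.x := inv_eq_of_mul_eq_one_right hx2
  have hyi : F.y⁻¹ = F.y := inv_eq_of_mul_eq_one_right hy2
  obtain ⟨f, hf, hfe⟩ := F.shift hn hW F.x_mem_T1
  obtain ⟨e, he, hee⟩ := F.shift hn hW F.y_mem_T1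
  have cx : ∀ a : M5, F.x * F.v a * F.x = F.v (act s₁ a) := fun a => by
    have h := F.conj _ (F.le_norm hxT) a
    rwa [hxi, hxp] at h
  have cy : ∀ a : M5, F.y * F.v a * F.y = F.v (act s₂ a) := fun a => by
    have h := F.conj _ (F.le_norm hyT) a
    rwa [hyi, hyp] at h
  have cancel : ∀ {p q : M5}, F.v p * F.v q = 1 → Eqv p q := fun {p q} h => by
    rw [← F.v_eq_iff, mul_eq_one_iff_eq_inv.1 h, F.inv (F.v_mem q)]
  have h1 : Eqv (act s₁ f) f := cancel (by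
    rw [← cx]
    calc F.x * F.v f * F.x * F.v f = (g * F.x * g⁻¹) * (g * F.x * g⁻¹) := by rw [hfe]; group
      _ = g * (F.x * F.x) * g⁻¹ := by group
      _ = 1 := by rw [hx2]; group)
  have h2 : Eqv (act s₂ e) e := cancel (by
    rw [← cy]
    calc F.y * F.v e * F.y * F.v e = (g * F.y * g⁻¹) * (g * F.y * g⁻¹) := by rw [hee]; group
      _ = g * (F.y * F.y) * g⁻¹ := by group
      _ = 1 := by rw [hy2]; group)
  have h3 : Eqv (act s₂ f + e) (act s₁ e + f) := by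
    rw [← F.v_eq_iff, F.v_mul, F.v_mul, ← cy, ← cx]
    refine mul_left_cancel (a := F.x * F.y) ?_
    have hyx : F.y * F.x = F.x * F.y := hxy.symm
    calc F.x * F.y * (F.y * F.v f * F.y * F.v e) = F.x * (F.y * F.y) * F.v f * F.y * F.v e := by group
      _ = (g * F.x * g⁻¹) * (g * F.y * g⁻¹) := by rw [hy2, mul_one, hfe, hee]; group
      _ = g * (F.x * F.y) * g⁻¹ := by group
      _ = g * (F.y * F.x) * g⁻¹ := by rw [hxy]
      _ = (g * F.y * g⁻¹) * (g * F.x * g⁻¹) := by group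
      _ = F.y * (F.x * F.x) * F.v e * F.x * F.v f := by rw [hfe, hee, hx2]; group
      _ = (F.y * F.x) * (F.x * F.v e * F.x * F.v f) := by group
      _ = F.x * F.y * (F.x * F.v e * F.x * F.v f) := by rw [hyx]
  obtain ⟨a, ha1, ha2⟩ := complements_conj f hf h1 e he h2 h3
  have hav := F.v_mem a
  set r := (F.v a)⁻¹ * g with hr
  have main : ∀ (s : G) (σ : P5) (p : M5), s * s = 1 → s * F.v a * s = F.v (act σ a) → g * s * g⁻¹ = s * F.v p →
      Eqv (a + act σ a) p → Commute r s := by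
    intro s σ p hs2 hsa hgs hp
    refine mul_inv_eq_iff_eq_mul.1 ?_
    have hconj : F.v a * s * (F.v a)⁻¹ = s * F.v p := by
      calc F.v a * s * (F.v a)⁻¹ = s * ((s * F.v a * s) * (F.v a)⁻¹) := by
            rw [show s * (s * F.v a * s * (F.v a)⁻¹) = (s * s) * (F.v a * s * (F.v a)⁻¹) by group, hs2, one_mul]
        _ = s * (F.v (act σ a) * F.v a) := by rw [hsa, F.inv hav]
        _ = s * F.v p := by rw [← F.v_mul, add_comm, F.v_eq_iff.2 hp]
    calc r * s * r⁻¹ = (F.v a)⁻¹ * (g * s * g⁻¹) * F.v a := by rw [hr]; group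
      _ = (F.v a)⁻¹ * (F.v a * s * (F.v a)⁻¹) * F.v a := by rw [hgs, hconj]
      _ = s := by group
  have hcx : Commute r F.x := main F.x s₁ f hx2 (cx a) hfe ha1
  have hcy : Commute r F.y := main F.y s₂ e hy2 (cy a) hee ha2
  have hrW : ∀ q : M5, par q = 0 → Commute r (F.v q) := fun q hq =>
    (show Commute (F.v a) (F.v q) from F.comm hav (F.v_mem q)).inv_left.mul_left (hW q hq)
  have hrT : r ∈ centralizer (F.T1 : Set G) := F.mem_cent_T1 hrW (fun σ hσ => by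
    obtain ⟨k0, k1, k2, k3⟩ := F.kf_vals
    simp only [fourList, List.mem_cons, List.not_mem_nil, or_false] at hσ
    rcases hσ with rfl | rfl | rfl | rfl
    · rw [k0]; exact Commute.one_right r
    · rw [k1]; exact hcx
    · rw [k2]; exact hcy
    · rw [k3]; exact hcx.mul_right hcy)
  obtain ⟨c, hc, d, hd, hrd⟩ := F.cent_T1_decomp hrT
  refine ⟨F.v a * c, F.A.mul_mem hav ?_, d, hd, ?_⟩
  · exact (zpowers_le.2 (F.v_mem e₄)) hc
  · rw [mul_assoc, ← hrd, hr, mul_inv_cancel_left]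

/-- modulo the centre the automisers fix nothing, so `T1` is normal modulo the core -/
theorem factor_T1 {g : G} (hg : g ∈ F.Cz) :
    ∃ o ∈ OC F.Cz, ∃ h ∈ F.Cz ⊓ normalizer (F.T1 : Set G), g = o * h := by
  haveI : Fact (Nat.Prime 2) := ⟨Nat.prime_two⟩
  obtain ⟨H, hHC, hCH, hHT, hor, hidx⟩ := F.exists_index_two
  have hc0 : F.c₀ ∈ F.Cz ⊓ normalizer (F.T1 : Set G) := ⟨F.T_le_cent F.c₀_mem, F.T_le_norm_T1 F.c₀_mem⟩
  suffices key : ∀ g ∈ H, ∃ o ∈ OC F.Cz, ∃ h ∈ F.Cz ⊓ normalizer (F.T1 : Set G), g = o * h by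
    rcases hor g hg with h | h
    · exact key g h
    · obtain ⟨o, ho, m, hm, he⟩ := key _ h
      exact ⟨o, ho, m * F.c₀⁻¹, mul_mem hm (inv_mem hc0), by rw [← mul_assoc, ← he, mul_inv_cancel_right]⟩
  have hT1H : F.T1 ≤ H := fun t ht => (hHT t ht.1).2 ht
  have hzH : F.z ∈ H := hT1H F.z_mem_T1
  set Zs := (zpowers F.z).subgroupOf H with hZs
  haveI hZn : Zs.Normal := ⟨fun a ha k => by
    rw [hZs, mem_subgroupOf] at ha ⊢
    have hkz := F.commute_z (hHC k.2)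
    rcases F.zpowers_z ha with e | e
    · push_cast
      rw [e, mul_one, mul_inv_cancel]; exact one_mem _
    · push_cast
      rw [e, hkz.eq, mul_inv_cancel_right]; exact mem_zpowers _⟩
  set q := QuotientGroup.mk' Zs with hq
  have hqs : Function.Surjective q := QuotientGroup.mk'_surjective Zs
  have hqk : ∀ a : H, q a = 1 ↔ (a : G) ∈ zpowers F.z := fun a => QuotientGroup.eq_one_iff a
  set T1' := F.T1.subgroupOf H with hT1'
  have hZT : Zs ≤ T1' := comap_mono (zpowers_le.2 F.z_mem_T1)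
  have hker : q.ker ≤ T1' := by rw [hq, QuotientGroup.ker_mk']; exact hZT
  have hEp : IsPGroup 2 (T1'.map q) :=
    ((F.T.2.to_le F.T1_le).of_equiv (subgroupOfEquivOfLe hT1H).symm).map q
  have hEidx : ¬ 2 ∣ (T1'.map q).index := by
    rw [index_map_eq T1' hqs hker]; exact hidx
  let E : Sylow 2 (H ⧸ Zs) := hEp.toSylow hEidx
  have hEmem : ∀ a : H, q a ∈ (E : Subgroup (H ⧸ Zs)) ↔ (a : G) ∈ F.T1 := fun a => by
    show q a ∈ T1'.map q ↔ _
    refine ⟨fun ⟨b, hb, hbe⟩ => ?_, fun h => ⟨a, h, rfl⟩⟩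
    have h1 : b⁻¹ * a ∈ q.ker := by rw [MonoidHom.mem_ker, map_mul, map_inv, hbe, inv_mul_cancel]
    have h2 := T1'.mul_mem hb (hker h1)
    rwa [mul_inv_cancel_left] at h2
  have hsq : ∀ a ∈ (E : Subgroup (H ⧸ Zs)), a * a = 1 := by
    intro a ha
    obtain ⟨a, rfl⟩ := hqs a
    have h := ((F.chi_iff (F.T1_le ((hEmem a).1 ha))).1 ((hEmem a).1 ha).2).1
    rw [← map_mul, hqk]
    push_cast
    rcases h with e | e <;> rw [e]
    · exact one_mem _
    · exact mem_zpowers _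
  have hE : Cfsg.IsElementaryAbelian 2 (E : Subgroup (H ⧸ Zs)) := by
    refine ⟨⟨⟨fun a b => Subtype.ext ?_⟩⟩, fun a ha => by rw [pow_two]; exact hsq a ha⟩
    have hi : ∀ c ∈ (E : Subgroup (H ⧸ Zs)), c⁻¹ = c := fun c hc => inv_eq_of_mul_eq_one_right (hsq c hc)
    show (a : H ⧸ Zs) * b = b * a
    rw [← hi _ (mul_mem a.2 b.2), mul_inv_rev, hi _ a.2, hi _ b.2]
  have hE3 : 2 ^ 3 ≤ Nat.card (E : Subgroup (H ⧸ Zs)) := by
    show 2 ^ 3 ≤ Nat.card (T1'.map q)
    have e1 : Nat.card (T1'.map q) * Nat.card Zs = Nat.card T1' := by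
      have := (Zs.subgroupOf T1').card_mul_index
      rw [Nat.card_congr (subgroupOfEquivOfLe hZT).toEquiv] at this
      rw [show Nat.card (T1'.map q) = q.ker.relIndex T1' from (Subgroup.relIndex_ker (K := T1') q).symm,
        hq, QuotientGroup.ker_mk', mul_comm]
      exact this
    rw [Nat.card_congr (subgroupOfEquivOfLe hT1H).toEquiv, F.card_T1,
      Nat.card_congr (subgroupOfEquivOfLe (zpowers_le.2 hzH)).toEquiv, Nat.card_zpowers, F.z_ord] at e1
    omega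
  have hnorm : ∀ a : H, q a ∈ normalizer ((E : Subgroup (H ⧸ Zs)) : Set (H ⧸ Zs)) →
      (a : G) ∈ normalizer (F.T1 : Set G) := fun a ha =>
    CfsgLib.ProdFusion.mem_of_forall_conj_mem fun t ht => by
      have h2 := (mem_normalizer_iff.1 ha _).1 ((hEmem ⟨t, hT1H ht⟩).2 ht)
      rw [← map_inv, ← map_mul, ← map_mul] at h2
      exact (hEmem _).1 h2
  have hfix : ∀ e ∈ (E : Subgroup (H ⧸ Zs)), e ≠ 1 →
      ∀ n ∈ normalizer ((E : Subgroup (H ⧸ Zs)) : Set (H ⧸ Zs)),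
      Odd (orderOf n) → Commute n e → n ∈ centralizer ((E : Subgroup (H ⧸ Zs)) : Set (H ⧸ Zs)) := by
    intro e he he1 n hn hno hne
    obtain ⟨h₀, rfl⟩ := hqs n
    obtain ⟨t, rfl⟩ := hqs e
    set a := (orderOf h₀).factorization 2
    have hr0 : orderOf h₀ ≠ 0 := (orderOf_pos h₀).ne'
    set h := h₀ ^ 2 ^ a with hh
    have hho : Odd (orderOf (h : G)) := by
      rw [Subgroup.orderOf_coe, hh, orderOf_pow' _ (by positivity), Nat.gcd_eq_right (Nat.ordProj_dvd _ 2)]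
      have := Nat.not_dvd_ordCompl Nat.prime_two hr0
      exact Nat.odd_iff.2 (by omega)
    have hqh : q h ∈ normalizer ((E : Subgroup (H ⧸ Zs)) : Set (H ⧸ Zs)) := by
      rw [hh, map_pow]; exact pow_mem hn _
    have hcomm : Commute (q h) (q t) := by rw [hh, map_pow]; exact hne.pow_left _
    have ht : (t : G) ∈ F.T1 := (hEmem t).1 he
    have htne : (t : G) ≠ 1 ∧ (t : G) ≠ F.z := ⟨fun e => he1 ((hqk t).2 (e ▸ one_mem _)),
      fun e => he1 ((hqk t).2 (e ▸ mem_zpowers _))⟩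
    have hcase : (h : G) * t * (h : G)⁻¹ = t ∨ (h : G) * t * (h : G)⁻¹ = t * F.z := by
      have h1 : q (t⁻¹ * (h * t * h⁻¹)) = 1 := by
        rw [map_mul, map_mul, map_mul, map_inv, map_inv, hcomm.eq, mul_inv_cancel_right, inv_mul_cancel]
      rcases F.zpowers_z ((hqk _).1 h1) with e | e
      · exact Or.inl (by push_cast at e; exact (inv_mul_eq_one.1 e).symm)
      · exact Or.inr (by push_cast at e; rw [← e, mul_inv_cancel_left])
    have hfa := F.fix_all (hHC h.2) hho (hnorm h hqh) ht htne.1 htne.2 hcase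
    obtain ⟨b, hb⟩ : ∃ b : ℤ, q h₀ = (q h) ^ b := by
      rw [hh, map_pow]
      have hcop : Nat.Coprime (2 ^ a) (orderOf (q h₀)) :=
        (Nat.prime_two.coprime_iff_not_dvd.2 (fun h2 => Nat.not_even_iff_odd.2 hno (even_iff_two_dvd.2 h2))).pow_left a
      have hb := Nat.gcd_eq_gcd_ab (2 ^ a) (orderOf (q h₀))
      rw [hcop] at hb
      refine ⟨Nat.gcdA (2 ^ a) (orderOf (q h₀)), ?_⟩
      conv_lhs => rw [← zpow_one (q h₀), show (1 : ℤ) = ((1 : ℕ) : ℤ) from rfl, hb, zpow_add, zpow_mul (q h₀) ((orderOf (q h₀) : ℕ) : ℤ),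
        zpow_natCast _ (orderOf (q h₀)), pow_orderOf_eq_one, one_zpow, mul_one, zpow_mul, zpow_natCast]
    rw [hb]
    refine Subgroup.zpow_mem _ (mem_centralizer_iff.2 fun s hs => ?_) b
    obtain ⟨s, rfl⟩ := hqs s
    rw [← map_mul, ← map_mul]
    exact congrArg q (Subtype.ext (mem_centralizer_iff.1 hfa _ ((hEmem s).1 hs)))
  have hb1 : q ⟨F.b, hT1H (F.v_mem_T1 core_facts.1)⟩ ≠ 1 := fun e => by
    rcases F.zpowers_z ((hqk _).1 e) with e | e
    · exact F.b_ne e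
    · exact core_facts.2.2 (F.v_eq_iff.1 e)
  have hx1 : q ⟨F.x, hT1H F.x_mem_T1⟩ ≠ 1 := fun e => by
    rcases F.zpowers_z ((hqk _).1 e) with e | e
    · exact invol_ne_one F.x_ord e
    · exact F.distinct.2.1 (isConj_iff.2 ⟨1, by simpa using e.symm⟩)
  have hbx : ¬ IsConj (q ⟨F.b, hT1H (F.v_mem_T1 core_facts.1)⟩) (q ⟨F.x, hT1H F.x_mem_T1⟩) := fun hc => by
    obtain ⟨m, hm⟩ := isConj_iff.1 hc
    obtain ⟨m, rfl⟩ := hqs m
    have h1 : q (⟨F.x, hT1H F.x_mem_T1⟩⁻¹ * (m * ⟨F.b, hT1H (F.v_mem_T1 core_facts.1)⟩ * m⁻¹)) = 1 := by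
      rw [map_mul, map_mul, map_mul, map_inv, map_inv, hm, inv_mul_cancel]
    rcases F.zpowers_z ((hqk _).1 h1) with e | e <;> push_cast at e
    · exact F.distinct.2.2 (isConj_iff.2 ⟨m, (inv_mul_eq_one.1 e).symm⟩)
    · have e' : (m : G) * F.b * (m : G)⁻¹ = F.x * F.z := by rw [← e, mul_inv_cancel_left]
      have hxz : IsConj F.x (F.x * F.z) := F.outside_conj (F.N.mul_mem (F.le_norm F.x_spec.1) (F.A_le_N (F.v_mem _)))
        (by rw [← e', show (m : G) * F.b * (m : G)⁻¹ * ((m : G) * F.b * (m : G)⁻¹) = (m : G) * (F.b * F.b) * (m : G)⁻¹ by group,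
          F.sq (F.v_mem _)]; group)
        (by rw [F.perm_mul _ (F.le_norm F.x_spec.1) _ (F.A_le_N (F.v_mem _)), F.x_spec.2.1, F.perm_of_mem (F.v_mem _), mul_one]
            exact vec_facts.2.2.2.2.2.2.2)
      exact F.distinct.2.2 ((isConj_iff.2 ⟨m, e'⟩ : IsConj F.b (F.x * F.z)).trans hxz.symm)
  intro g hg
  obtain ⟨o, ho, n, hn, he⟩ := factor_of_abelian_sylow E hE hE3 hfix
    ((hEmem _).2 (F.v_mem_T1 core_facts.1)) hb1 ((hEmem _).2 F.x_mem_T1) hx1 hbx (q ⟨g, hg⟩)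
  obtain ⟨m, rfl⟩ := hqs n
  set P₀ : Subgroup G := ((Cfsg.pPrimeCore 2 (H ⧸ Zs)).comap q).map H.subtype with hP₀
  haveI : (Cfsg.pPrimeCore 2 (H ⧸ Zs)).Normal := by
    haveI := CfsgLib.Coprime.pPrimeCore_characteristic (G := H ⧸ Zs) 2
    infer_instance
  have hP₀H : P₀ ≤ H := map_subtype_le _
  have hgm : g * (m : G)⁻¹ ∈ P₀ := by
    refine ⟨⟨g, hg⟩ * m⁻¹, ?_, rfl⟩
    rw [SetLike.mem_coe, mem_comap, map_mul, map_inv, he, mul_inv_cancel_right]
    exact ho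
  have hzP : zpowers F.z ≤ P₀ := zpowers_le.2 ⟨⟨F.z, hzH⟩, by
    rw [SetLike.mem_coe, mem_comap, (hqk _).2 (mem_zpowers F.z)]; exact one_mem _, rfl⟩
  have hidx0 : ¬ 2 ∣ ((zpowers F.z).subgroupOf P₀).index := by
    show ¬ 2 ∣ (zpowers F.z).relIndex P₀
    rw [hP₀, ← relIndex_comap, show (zpowers F.z).comap H.subtype = q.ker by
      rw [hq, QuotientGroup.ker_mk']; rfl, relIndex_ker, map_comap_eq_self_of_surjective hqs]
    exact CfsgLib.Coprime.pPrimeCore_not_dvd Nat.prime_two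
  obtain ⟨c, hc, d, hd, hcd⟩ := decomp_in hzP (IsPGroup.of_card (n := 1)
    (by rw [Nat.card_zpowers, F.z_ord, pow_one])) hidx0 (fun n hn _ => mem_centralizer_iff.2 fun a ha => by
      rcases F.zpowers_z ha with rfl | rfl
      · rw [one_mul, mul_one]
      · exact (F.commute_z (hHC (hP₀H hn))).symm.eq) hgm
  have hdO : d ∈ OC F.Cz := by
    refine OC_le_OC hHC hCH (OC_le_OC hP₀H ?_ hd)
    intro k hk
    refine CfsgLib.ProdFusion.mem_of_forall_conj_mem ?_
    rintro _ ⟨a, ha, rfl⟩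
    exact ⟨⟨k, hk⟩ * a * ⟨k, hk⟩⁻¹, (inferInstance : ((Cfsg.pPrimeCore 2 (H ⧸ Zs)).comap q).Normal).conj_mem a ha _, rfl⟩
  have hcm : c ∈ F.Cz ⊓ normalizer (F.T1 : Set G) :=
    ⟨hHC (hP₀H (hzP hc)), le_normalizer ((zpowers_le.2 F.z_mem_T1) hc)⟩
  have hcd' : c * d = d * c := by
    rcases F.zpowers_z hc with rfl | rfl
    · rw [one_mul, mul_one]
    · exact (F.commute_z (OC_le _ hdO)).symm.eq
  exact ⟨d, hdO, c * (m : G), mul_mem hcm ⟨hHC m.2, hnorm m hn⟩, by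
    rw [← mul_assoc, ← hcd', ← hcd, inv_mul_cancel_right]⟩

theorem D_le_core : F.D ≤ OC F.Cz := by
  have hO : F.Cz ≤ normalizer (OC F.Cz : Set G) := le_normalizer_OC_self _
  have h1 : F.D ⊔ OC F.Cz ≤ OC F.Cz := le_OC (sup_le F.D_le (OC_le _))
    (odd_sup (F.D_le.trans hO) (odd_card_OC _) (odd_card_OC _)) (fun g hg => by
      obtain ⟨o, ho, h, hh, rfl⟩ := F.factor_T1 hg
      refine mul_mem (le_normalizer (mem_sup_right ho)) ?_
      have e1 := CfsgLib.Coprime.conjBy_eq_self_iff.2 (hO hh.1)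
      have e2 : CfsgLib.Coprime.conjBy h F.D = F.D := CfsgLib.Coprime.conjBy_eq_self_iff.2
        (le_normalizer_OC _ (CfsgLib.Coprime.normalizer_le_normalizer_centralizer _ hh.2))
      rw [← CfsgLib.Coprime.conjBy_eq_self_iff]
      simp only [CfsgLib.Coprime.conjBy, Subgroup.map_sup] at e1 e2 ⊢
      rw [e1, e2])
  exact le_sup_left.trans h1

/-- **the centraliser of `z` is factorised** -/
theorem nice_z : Nice F.A F.z := by
  intro g hg
  obtain ⟨o, ho, h, hh, rfl⟩ := F.factor_T1 hg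
  set c₁ := h * F.c₀ * h⁻¹ with hc₁
  have hc0A : F.c₀ ∈ F.A := F.v_mem _
  have hc₁n : c₁ ∈ normalizer (F.T1 : Set G) :=
    mul_mem (mul_mem hh.2 (F.T_le_norm_T1 F.c₀_mem)) (inv_mem hh.2)
  have hc₁W : ∀ f : M5, par f = 0 → Commute c₁ (F.v f) := by
    intro f hf
    obtain ⟨e, he, hee⟩ := F.core_image ((normalizer (F.T1 : Set G)).inv_mem hh.2) hf
    have h2 : F.v f = h * F.v e * h⁻¹ := by rw [← hee]; group
    rw [h2, hc₁]
    show h * F.c₀ * h⁻¹ * (h * F.v e * h⁻¹) = h * F.v e * h⁻¹ * (h * F.c₀ * h⁻¹)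
    calc h * F.c₀ * h⁻¹ * (h * F.v e * h⁻¹) = h * (F.c₀ * F.v e) * h⁻¹ := by group
      _ = h * (F.v e * F.c₀) * h⁻¹ := by rw [F.comm hc0A (F.v_mem e)]
      _ = _ := by group
  obtain ⟨a, ha, d, hd, hce⟩ := F.core_cent hc₁n hc₁W
  have hdo : Odd (orderOf d) := CfsgLib.ProdFusion.odd_orderOf_of_mem (odd_card_OC _) hd
  have hc0 : orderOf F.c₀ = 2 := invol_iff.2 ⟨F.sq hc0A, fun e => by
    have h := F.chi_c₀
    rw [e, F.chi_one] at h
    exact zero_ne_one h⟩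
  have hc₁o : orderOf c₁ = 2 := invol_conj hc0 h
  have ha1 : a ≠ 1 := fun e => by
    rw [e, one_mul] at hce
    rw [← hce, hc₁o] at hdo
    exact absurd hdo (by decide)
  obtain ⟨w, hw, hwe⟩ := exists_conj_eq_of_odd hc₁o (invol_iff.2 ⟨F.sq ha, ha1⟩) (by
    have e : c₁ * a = a * (d * a) := by rw [hce]; group
    have e2 : c₁ * a = a * d * a⁻¹ := by rw [e, F.inv ha]; group
    rw [e2, ← MulAut.conj_apply, ← MulEquiv.coe_toMonoidHom, orderOf_injective _ (MulEquiv.injective _)]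
    exact hdo)
  have hwD : w ∈ F.D := by
    refine (zpowers_le.2 ?_) hw
    have e : c₁ * a = a * d * a⁻¹ := by rw [hce, F.inv ha]
    rw [e]
    exact (mem_normalizer_iff.1 (le_normalizer_OC _ (CfsgLib.Coprime.normalizer_le_normalizer_centralizer _
      (F.T_le_norm_T1 (F.le_syl ha)))) d).1 hd
  have hwC : w ∈ centralizer (F.T1 : Set G) := OC_le _ hwD
  refine ⟨o * w⁻¹, mul_mem ho (inv_mem (F.D_le_core hwD)), w * h,
    ⟨?_, F.Cz.mul_mem (F.D_le hwD) hh.1⟩, by group⟩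
  refine CfsgLib.ProdFusion.mem_of_forall_conj_mem fun α hα => ?_
  obtain ⟨f, rfl⟩ := F.v_surj α hα
  have hcase : ∀ f : M5, par f = 0 → w * h * F.v f * (w * h)⁻¹ ∈ F.A := by
    intro f hf
    obtain ⟨e, he, hee⟩ := F.core_image hh.2 hf
    rw [show w * h * F.v f * (w * h)⁻¹ = w * (h * F.v f * h⁻¹) * w⁻¹ by group, hee,
      ← mem_centralizer_iff.1 hwC _ (F.v_mem_T1 he), mul_inv_cancel_right]
    exact F.v_mem e
  have h2 : ∀ a : ZMod 2, a = 0 ∨ a + 1 = 0 := by decide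
  rcases h2 (par f) with hf | hf
  · exact hcase f hf
  · have hp : par (f + e₀) = 0 := by rw [par_add, pair_facts.2.2.1, hf]
    have e : F.v f = F.v (f + e₀) * F.c₀ := by
      rw [show F.c₀ = F.v e₀ from rfl, ← F.v_mul, add_assoc, CharTwo.add_self_eq_zero, add_zero]
    rw [e, show w * h * (F.v (f + e₀) * F.c₀) * (w * h)⁻¹ =
      (w * h * F.v (f + e₀) * (w * h)⁻¹) * (w * (h * F.c₀ * h⁻¹) * w⁻¹) by group, ← hc₁, hwe]
    exact F.A.mul_mem (hcase _ hp) ha

end Frame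

end CfsgLib.Invol.EightTypeThree
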