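import Cfsg.Agent.Lib.Invol.EightTypeThree.Frame

/-!
# The three classes; strong closure of `A`
-/

set_option autoImplicit false
set_option linter.unusedSectionVars false
set_option linter.style.haveILetI false

namespace CfsgLib.Invol.EightTypeThree

open Subgroup CfsgLib.Invol Equiv
open CfsgLib.ProdFusion (OC OC_le odd_card_OC le_normalizer_OC)

universe u

theorem four_facts : ∀ σ ∈ fourList, σ⁻¹ = σ ∧ σ * σ = 1 := by decide +kernel

theorem vec_facts : e₄ ≠ 0 ∧ e₄ ≠ 1 ∧ IsSingle e₄ ∧ e₀₁ ≠ 0 ∧ e₀₁ ≠ 1 ∧ ¬ IsSingle e₀₁ ∧ s₁ ∈ fourList ∧ s₁ ≠ 1 := by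
  decide +kernel

variable {G : Type u} [Group G] [Finite G]

namespace Frame

variable (F : Frame G)

abbrev N : Subgroup G := normalizer (F.A : Set G)
abbrev z : G := F.v e₄
abbrev b : G := F.v e₀₁

theorem A_le_N : F.A ≤ F.N := le_normalizer

theorem cent_le_N : centralizer (F.A : Set G) ≤ F.N := CfsgLib.Coprime.centralizer_le_normalizer_self _

theorem sq {a : G} (ha : a ∈ F.A) : a * a = 1 := by rw [← pow_two]; exact F.elem.2 a ha

theorem inv {a : G} (ha : a ∈ F.A) : a⁻¹ = a := inv_eq_of_mul_eq_one_right (F.sq ha)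

theorem comm {a c : G} (ha : a ∈ F.A) (hc : c ∈ F.A) : a * c = c * a :=
  CfsgLib.EABasic.comm_of_isElementaryAbelian F.elem ha hc

theorem v_zero : F.v 0 = 1 := (F.v_eq_one 0).2 (Or.inl rfl)

theorem v_one : F.v 1 = 1 := (F.v_eq_one 1).2 (Or.inr rfl)

theorem v_eq_iff {f g : M5} : F.v f = F.v g ↔ Eqv f g := by
  show _ ↔ (f + g = 0 ∨ f + g = 1)
  rw [← F.v_eq_one, F.v_mul, mul_eq_one_iff_eq_inv, F.inv (F.v_mem g)]

theorem v_ne_one {f : M5} (h0 : f ≠ 0) (h1 : f ≠ 1) : F.v f ≠ 1 := fun h =>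
  ((F.v_eq_one f).1 h).elim h0 h1

theorem perm_one : F.perm 1 = 1 := by
  have h := F.perm_mul 1 F.N.one_mem 1 F.N.one_mem
  rw [mul_one] at h
  exact mul_eq_left.1 h.symm

theorem perm_inv {g : G} (hg : g ∈ F.N) : F.perm g⁻¹ = (F.perm g)⁻¹ := by
  have h := F.perm_mul g⁻¹ (F.N.inv_mem hg) g hg
  rw [inv_mul_cancel, perm_one] at h
  exact eq_inv_of_mul_eq_one_left h.symm

theorem perm_conj {m g : G} (hm : m ∈ F.N) (hg : g ∈ F.N) :
    F.perm (m * g * m⁻¹) = F.perm m * F.perm g * (F.perm m)⁻¹ := by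
  rw [F.perm_mul _ (F.N.mul_mem hm hg) _ (F.N.inv_mem hm), F.perm_mul _ hm _ hg, F.perm_inv hm]

theorem perm_eq_one {g : G} (hg : g ∈ F.N) : F.perm g = 1 ↔ g ∈ centralizer (F.A : Set G) := by
  refine ⟨fun h => mem_centralizer_iff.2 fun a ha => ?_, fun h => act_faithful _ fun i => ?_⟩
  · obtain ⟨f, rfl⟩ := F.v_surj a ha
    have h1 := F.conj g hg f
    rw [h, show act 1 f = f from rfl] at h1
    exact (mul_inv_eq_iff_eq_mul.1 h1).symm
  · rw [← F.v_eq_iff, ← F.conj g hg, ← mem_centralizer_iff.1 h _ (F.v_mem _), mul_inv_cancel_right]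

theorem perm_of_mem {a : G} (ha : a ∈ F.A) : F.perm a = 1 :=
  (F.perm_eq_one (F.A_le_N ha)).2 (mem_centralizer_iff.2 fun _ hc => F.comm hc ha)

/-- involutions centralising `A` lie in `A` -/
theorem mem_of_sq {g : G} (hg : g ∈ centralizer (F.A : Set G)) (h2 : g * g = 1) : g ∈ F.A := by
  obtain ⟨c, hc, d, hd, rfl⟩ := F.cent g hg
  have hcd : c * d = d * c := mem_centralizer_iff.1 (OC_le _ hd) c hc
  have hd2 : d * d = 1 := by
    calc d * d = (c * c) * (d * d) := by rw [F.sq hc, one_mul]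
      _ = c * (c * d) * d := by group
      _ = c * (d * c) * d := by rw [hcd]
      _ = 1 := by rw [← h2]; group
  rw [CfsgLib.ProdFusion.eq_one_of_sq (odd_card_OC _) hd hd2, mul_one]
  exact hc

/-- the representative of a vector -/
theorem conj_rep {f : M5} (h0 : f ≠ 0) (h1 : f ≠ 1) :
    ∃ n ∈ F.N, n * F.v f * n⁻¹ = if IsSingle f then F.z else F.b := by
  obtain ⟨σ, hσ, he⟩ := vec_classes f h0 h1
  obtain ⟨n, hn, rfl⟩ := F.lift σ hσ
  refine ⟨n, hn, ?_⟩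
  rw [F.conj n hn, F.v_eq_iff.2 he]
  split_ifs <;> rfl

/-- an involution of `T` over the double transposition -/
theorem exists_invol_over {σ : P5} (hσ : σ ∈ fourList) (h1 : σ ≠ 1) :
    ∃ t ∈ (F.T : Subgroup G), F.perm t = σ ∧ t * t = 1 := by
  obtain ⟨t, ht, rfl⟩ := F.four_lift σ hσ
  have htN := F.le_norm ht
  have hsq : t * t ∈ F.A := F.mem_of_perm _ ((F.T : Subgroup G).mul_mem ht ht) (by
    rw [F.perm_mul _ htN _ htN, (four_facts _ hσ).2])
  obtain ⟨f, hf⟩ := F.v_surj _ hsq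
  have hfix : Eqv (act (F.perm t) f) f := by
    rw [← F.v_eq_iff, ← F.conj t htN, hf]; group
  obtain ⟨g, hg⟩ := fixed_commutator _ hσ h1 f hfix
  refine ⟨t * F.v g, (F.T : Subgroup G).mul_mem ht (F.le_syl (F.v_mem g)), ?_, ?_⟩
  · rw [F.perm_mul _ htN _ (F.A_le_N (F.v_mem g)), F.perm_of_mem (F.v_mem g), mul_one]
  · have e := F.conj t⁻¹ (F.N.inv_mem htN) g
    rw [F.perm_inv htN, (four_facts _ hσ).1, inv_inv] at e
    calc t * F.v g * (t * F.v g) = (t * t) * (t⁻¹ * F.v g * t) * F.v g := by group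
      _ = F.v f * F.v (act (F.perm t) g) * F.v g := by rw [hf, e]
      _ = 1 := by
        rw [← F.v_mul, ← F.v_mul, F.v_eq_one]
        have e' : f + act (F.perm t) g + g = g + act (F.perm t) g + f := by abel
        rw [e']
        exact hg

noncomputable def x : G := (F.exists_invol_over vec_facts.2.2.2.2.2.2.1 vec_facts.2.2.2.2.2.2.2).choose

theorem x_spec : F.x ∈ (F.T : Subgroup G) ∧ F.perm F.x = s₁ ∧ F.x * F.x = 1 :=
  (F.exists_invol_over vec_facts.2.2.2.2.2.2.1 vec_facts.2.2.2.2.2.2.2).choose_spec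

/-- involutions of the normaliser outside the kernel are conjugate -/
theorem outside_conj {g : G} (hg : g ∈ F.N) (h2 : g * g = 1) (h1 : F.perm g ≠ 1) : IsConj F.x g := by
  obtain ⟨hxT, hxp, hx2⟩ := F.x_spec
  have hxN := F.le_norm hxT
  have hsq : F.perm g * F.perm g = 1 := by rw [← F.perm_mul _ hg _ hg, h2, F.perm_one]
  obtain ⟨τ, hτ, hτe⟩ := invol_conj_s₁ _ (F.even g hg) hsq h1
  obtain ⟨m, hm, rfl⟩ := F.lift τ hτ
  refine IsConj.trans ?_ (isConj_iff.2 ⟨m, rfl⟩ : IsConj g (m * g * m⁻¹)).symm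
  set g' := m * g * m⁻¹ with hg'
  have hg'N : g' ∈ F.N := F.N.mul_mem (F.N.mul_mem hm hg) (F.N.inv_mem hm)
  have hg'2 : g' * g' = 1 := by
    rw [hg', show m * g * m⁻¹ * (m * g * m⁻¹) = m * (g * g) * m⁻¹ by group, h2]; group
  have hxi : F.x⁻¹ = F.x := inv_eq_of_mul_eq_one_right hx2
  have hk : F.x * g' ∈ centralizer (F.A : Set G) := (F.perm_eq_one (F.N.mul_mem hxN hg'N)).1 (by
    rw [F.perm_mul _ hxN _ hg'N, hg', F.perm_conj hm hg, hτe, hxp]
    exact (four_facts _ vec_facts.2.2.2.2.2.2.1).2)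
  obtain ⟨c, hc, d, hd, he⟩ := F.cent _ hk
  set u := F.x * c with hu
  have hge : g' = u * d := by
    rw [hu, mul_assoc, ← he, ← mul_assoc, hx2, one_mul]
  have huN : u ∈ F.N := F.N.mul_mem hxN (F.A_le_N hc)
  have hd' : u⁻¹ * d * u ∈ OC (centralizer (F.A : Set G)) :=
    (mem_normalizer_iff''.1 (le_normalizer_OC _
      (CfsgLib.Coprime.normalizer_le_normalizer_centralizer _ huN)) d).1 hd
  have huu : u * u ∈ F.A := F.mem_of_perm _
    ((F.T : Subgroup G).mul_mem ((F.T : Subgroup G).mul_mem hxT (F.le_syl hc))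
      ((F.T : Subgroup G).mul_mem hxT (F.le_syl hc))) (by
      rw [F.perm_mul _ huN _ huN, hu, F.perm_mul _ hxN _ (F.A_le_N hc), hxp, F.perm_of_mem hc, mul_one,
        (four_facts _ vec_facts.2.2.2.2.2.2.1).2])
  have hu2 : u * u = 1 := CfsgLib.ProdFusion.eq_one_of_sq (odd_card_OC (centralizer (F.A : Set G))) (by
    have e : u * u = (u⁻¹ * d * u * d)⁻¹ := by
      rw [eq_inv_iff_mul_eq_one, ← hg'2, hge]; group
    rw [e]; exact inv_mem (mul_mem hd' hd)) (F.sq huu)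
  obtain ⟨f, rfl⟩ := F.v_surj c hc
  have hfix : Eqv (act s₁ f) f := by
    rw [← F.v_eq_iff, ← hxp, ← F.conj F.x hxN, hxi]
    calc F.x * F.v f * F.x = (u * u) * (F.v f)⁻¹ := by rw [hu]; group
      _ = F.v f := by rw [hu2, one_mul, F.inv (F.v_mem f)]
  obtain ⟨h, hh⟩ := fixed_commutator _ vec_facts.2.2.2.2.2.2.1 vec_facts.2.2.2.2.2.2.2 f hfix
  have hconj : F.v h * F.x * (F.v h)⁻¹ = u := by
    have e := F.conj F.x hxN h
    rw [hxp] at e
    calc F.v h * F.x * (F.v h)⁻¹ = F.x * ((F.x⁻¹ * F.v h * F.x) * (F.v h)⁻¹) := by group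
      _ = F.x * (F.v (act s₁ h) * F.v h) := by
        rw [F.inv (F.v_mem h), ← e, hxi]
      _ = u := by
        rw [hu, ← F.v_mul, F.v_eq_iff.2 (show Eqv (act s₁ h + h) f by rw [add_comm (act s₁ h) h]; exact hh)]
  have hu1 : u ≠ 1 := fun e => vec_facts.2.2.2.2.2.2.2 (by
    have e' := F.perm_mul _ hxN _ (F.A_le_N hc)
    rw [← hu, e, F.perm_one, hxp, F.perm_of_mem hc, mul_one] at e'
    exact e'.symm)
  have hg'1 : g' ≠ 1 := fun e => h1 (by
    have : g = 1 := by simpa [hg'] using e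
    rw [this, F.perm_one])
  refine (isConj_iff.2 ⟨_, hconj⟩ : IsConj F.x u).trans
    (isConj_of_odd (invol_iff.2 ⟨hu2, hu1⟩) (invol_iff.2 ⟨hg'2, hg'1⟩) ?_)
  rw [hge, ← mul_assoc, hu2, one_mul]
  exact CfsgLib.ProdFusion.odd_orderOf_of_mem (odd_card_OC _) hd

theorem z_ne : F.z ≠ 1 := F.v_ne_one vec_facts.1 vec_facts.2.1

theorem b_ne : F.b ≠ 1 := F.v_ne_one vec_facts.2.2.2.1 vec_facts.2.2.2.2.1

theorem z_ord : orderOf F.z = 2 := invol_iff.2 ⟨F.sq (F.v_mem _), F.z_ne⟩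

theorem b_ord : orderOf F.b = 2 := invol_iff.2 ⟨F.sq (F.v_mem _), F.b_ne⟩

theorem x_ord : orderOf F.x = 2 := invol_iff.2 ⟨F.x_spec.2.2, fun e => vec_facts.2.2.2.2.2.2.2 (by
  rw [← F.x_spec.2.1, e, F.perm_one])⟩

/-- an element of `A` is in one of two classes -/
theorem conj_z_or_b {a : G} (ha : a ∈ F.A) (ha1 : a ≠ 1) : IsConj F.z a ∨ IsConj F.b a := by
  obtain ⟨f, rfl⟩ := F.v_surj a ha
  obtain ⟨n, -, h⟩ := F.conj_rep (f := f) (fun e => ha1 (e ▸ F.v_zero)) (fun e => ha1 (e ▸ F.v_one))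
  split_ifs at h
  · exact Or.inl (isConj_iff.2 ⟨n, h⟩).symm
  · exact Or.inr (isConj_iff.2 ⟨n, h⟩).symm

/-- the classes of involutions -/
theorem trichotomy {g : G} (hg : orderOf g = 2) : IsConj F.z g ∨ IsConj F.b g ∨ IsConj F.x g := by
  haveI : Fact (Nat.Prime 2) := ⟨Nat.prime_two⟩
  have h2 : IsPGroup 2 (zpowers g) := IsPGroup.of_card (n := 1) (by rw [Nat.card_zpowers, hg, pow_one])
  obtain ⟨k, hk⟩ := exists_conj_le_sylow h2 F.T
  set g' := k * g * k⁻¹ with hg'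
  have hg'T : g' ∈ (F.T : Subgroup G) := hk g (mem_zpowers g)
  have hgg' : IsConj g g' := isConj_iff.2 ⟨k, rfl⟩
  have hg'o : orderOf g' = 2 := invol_conj hg k
  by_cases hp : F.perm g' = 1
  · rcases F.conj_z_or_b (F.mem_of_perm _ hg'T hp) (invol_ne_one hg'o) with h | h
    · exact Or.inl (h.trans hgg'.symm)
    · exact Or.inr (Or.inl (h.trans hgg'.symm))
  · exact Or.inr (Or.inr ((F.outside_conj (F.le_norm hg'T) (invol_mul_self hg'o) hp).trans hgg'.symm))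

theorem distinct : ¬ IsConj F.z F.b ∧ ¬ IsConj F.z F.x ∧ ¬ IsConj F.b F.x := by
  let r : Fin 3 → {c : ConjClasses G // ∃ x ∈ c.carrier, orderOf x = 2} :=
    ![⟨ConjClasses.mk F.z, F.z, ConjClasses.mem_carrier_mk, F.z_ord⟩,
      ⟨ConjClasses.mk F.b, F.b, ConjClasses.mem_carrier_mk, F.b_ord⟩,
      ⟨ConjClasses.mk F.x, F.x, ConjClasses.mem_carrier_mk, F.x_ord⟩]
  have hsurj : Function.Surjective r := by
    rintro ⟨c, g, hgc, hg⟩
    have hc : c = ConjClasses.mk g := (ConjClasses.mem_carrier_iff_mk_eq.1 hgc).symm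
    rcases F.trichotomy hg with h | h | h
    · exact ⟨0, Subtype.ext ((ConjClasses.mk_eq_mk_iff_isConj.2 h).trans hc.symm)⟩
    · exact ⟨1, Subtype.ext ((ConjClasses.mk_eq_mk_iff_isConj.2 h).trans hc.symm)⟩
    · exact ⟨2, Subtype.ext ((ConjClasses.mk_eq_mk_iff_isConj.2 h).trans hc.symm)⟩
  have hinj : Function.Injective r :=
    (hsurj.bijective_of_nat_card_le (by rw [F.three, Nat.card_fin])).1
  have key : ∀ i j : Fin 3, i ≠ j → (r i).1 ≠ (r j).1 := fun i j h e => h (hinj (Subtype.ext e))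
  exact ⟨fun h => key 0 1 (by decide) (ConjClasses.mk_eq_mk_iff_isConj.2 h),
    fun h => key 0 2 (by decide) (ConjClasses.mk_eq_mk_iff_isConj.2 h),
    fun h => key 1 2 (by decide) (ConjClasses.mk_eq_mk_iff_isConj.2 h)⟩

/-- **`A` is strongly closed in `T`** -/
theorem closed {a : G} (ha : a ∈ F.A) (ha1 : a ≠ 1) (g : G) (hg : g * a * g⁻¹ ∈ (F.T : Subgroup G)) :
    g * a * g⁻¹ ∈ F.A := by
  refine F.mem_of_perm _ hg (by_contra fun hp => ?_)
  have hc := F.outside_conj (F.le_norm hg)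
    (by rw [show g * a * g⁻¹ * (g * a * g⁻¹) = g * (a * a) * g⁻¹ by group, F.sq ha]; group) hp
  have hc' : IsConj F.x a := hc.trans (isConj_iff.2 ⟨g, rfl⟩).symm
  rcases F.conj_z_or_b ha ha1 with h | h
  · exact F.distinct.2.1 (h.trans hc'.symm)
  · exact F.distinct.2.2 (h.trans hc'.symm)

/-- the class is read off the coordinates -/
theorem single_iff {f : M5} (h0 : f ≠ 0) (h1 : f ≠ 1) : IsConj F.z (F.v f) ↔ IsSingle f := by
  obtain ⟨n, -, h⟩ := F.conj_rep h0 h1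
  split_ifs at h with hs
  · exact iff_of_true (isConj_iff.2 ⟨n, h⟩).symm hs
  · exact iff_of_false (fun hc => F.distinct.1 (hc.trans (isConj_iff.2 ⟨n, h⟩))) hs

/-- fusion in `A` is controlled by the normaliser -/
theorem fusion {a : G} (ha : a ∈ F.A) (g : G) (hg : g * a * g⁻¹ ∈ F.A) :
    ∃ n ∈ F.N, n * a * n⁻¹ = g * a * g⁻¹ := by
  by_cases ha1 : a = 1
  · exact ⟨1, F.N.one_mem, by subst ha1; group⟩
  obtain ⟨f, rfl⟩ := F.v_surj a ha
  obtain ⟨f', hf'⟩ := F.v_surj _ hg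
  have hne : F.v f' ≠ 1 := by rw [hf']; exact fun e => ha1 (conj_eq_one_iff.1 e)
  have hf0 : f ≠ 0 ∧ f ≠ 1 := ⟨fun e => ha1 (e ▸ F.v_zero), fun e => ha1 (e ▸ F.v_one)⟩
  have hf'0 : f' ≠ 0 ∧ f' ≠ 1 := ⟨fun e => hne (e ▸ F.v_zero), fun e => hne (e ▸ F.v_one)⟩
  have hiff : IsSingle f ↔ IsSingle f' := by
    rw [← F.single_iff hf0.1 hf0.2, ← F.single_iff hf'0.1 hf'0.2, hf']
    exact ⟨fun h => h.trans (isConj_iff.2 ⟨g, rfl⟩), fun h => h.trans (isConj_iff.2 ⟨g, rfl⟩).symm⟩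
  obtain ⟨n, hn, hne'⟩ := F.conj_rep hf0.1 hf0.2
  obtain ⟨m, hm, hme⟩ := F.conj_rep hf'0.1 hf'0.2
  refine ⟨m⁻¹ * n, F.N.mul_mem (F.N.inv_mem hm) hn, ?_⟩
  rw [← hf', show m⁻¹ * n * F.v f * (m⁻¹ * n)⁻¹ = m⁻¹ * (n * F.v f * n⁻¹) * m by group, hne',
    if_congr hiff rfl rfl, ← hme]
  group

end Frame

end CfsgLib.Invol.EightTypeThree
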