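import Mathlib.GroupTheory.Perm.Sign
import Mathlib.Data.ZMod.Basic
import Mathlib.Algebra.BigOperators.Fin
import Mathlib.Data.Fintype.Perm
import Mathlib.Data.Fintype.Pi

/-!
# The deleted permutation module of degree five: finite facts
-/

set_option autoImplicit false
set_option synthInstance.maxSize 4000
set_option synthInstance.maxHeartbeats 80000

namespace CfsgLib.Invol.EightTypeThree

open Equiv

attribute [local instance 5000] List.decidableBAll List.decidableBEx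

abbrev P5 := Equiv.Perm (Fin 5)
abbrev M5 := Fin 5 → ZMod 2

/-- equality modulo the all-one vector -/
abbrev Eqv (f g : M5) : Prop := f + g = 0 ∨ f + g = 1

/-- weight one or four -/
abbrev IsSingle (f : M5) : Prop := (∑ i, (f i).val) = 1 ∨ (∑ i, (f i).val) = 4

/-- the action on vectors -/
abbrev act (σ : P5) (f : M5) : M5 := f ∘ ⇑σ.symm

def s₁ : P5 := swap 0 1 * swap 2 3
def s₂ : P5 := swap 0 2 * swap 1 3
def s₃ : P5 := swap 0 3 * swap 1 2
def c₃ : P5 := swap 0 1 * swap 1 2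
def c₅ : P5 := Equiv.addRight 1

/-- the four-group -/
def fourList : List P5 := [1, s₁, s₂, s₃]

/-- the stabiliser of the last point in the alternating group -/
def stabList : List P5 := fourList.flatMap fun v => [v, v * c₃, v * (c₃ * c₃)]

def e₄ : M5 := Pi.single 4 1
def e₀₁ : M5 := Pi.single 0 1 + Pi.single 1 1

theorem gen_facts : Perm.sign s₁ = 1 ∧ Perm.sign s₂ = 1 ∧ Perm.sign s₃ = 1 ∧ Perm.sign c₃ = 1 ∧
    Perm.sign c₅ = 1 ∧ c₅ ^ 5 = 1 ∧ c₅ ≠ 1 ∧ (∀ a ∈ fourList, ∀ b ∈ fourList, a * b ∈ fourList) ∧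
    (∀ a ∈ fourList, c₃ * a * c₃⁻¹ ∈ fourList ∧ c₃⁻¹ * a * c₃ ∈ fourList) ∧ fourList.toFinset.card = 4 ∧
    (∀ i : Fin 5, (c₅ ^ (i.val + 1)) 4 = i) := by decide +kernel

theorem stab_list : ∀ σ : P5, Perm.sign σ = 1 → σ 4 = 4 → σ ∈ stabList := by decide +kernel

theorem two_transitive : ∀ i j : Fin 5, i ≠ j → ∀ k : Fin 5, k ≠ 4 →
    ∃ σ : P5, Perm.sign σ = 1 ∧ σ i = 4 ∧ σ j = k := by decide +kernel

theorem act_faithful : ∀ σ : P5, (∀ i, Eqv (act σ (Pi.single i 1)) (Pi.single i 1)) → σ = 1 := by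
  decide +kernel

theorem vec_classes : ∀ f : M5, f ≠ 0 → f ≠ 1 →
    ∃ σ : P5, Perm.sign σ = 1 ∧ Eqv (act σ f) (if IsSingle f then e₄ else e₀₁) := by decide +kernel

theorem fixed_commutator : ∀ σ ∈ fourList, σ ≠ 1 → ∀ f : M5, Eqv (act σ f) f →
    ∃ g : M5, Eqv (g + act σ g) f := by decide +kernel

theorem invol_conj_s₁ : ∀ σ : P5, Perm.sign σ = 1 → σ * σ = 1 → σ ≠ 1 →
    ∃ τ : P5, Perm.sign τ = 1 ∧ τ * σ * τ⁻¹ = s₁ := by decide +kernel

end CfsgLib.Invol.EightTypeThree
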