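import Cfsg.Agent.Lib.Invol.EightTypeThree.Point
import Cfsg.Agent.Lib.Invol.EightTypeThree.Sylow
import Cfsg.Agent.Lib.Invol.EightTypeThree.Data
import Cfsg.Prelude.Def_CaseTheorems
import Mathlib.GroupTheory.SpecificGroups.Alternating.Simple

/-!
# The normaliser of an elementary subgroup of order sixteen with quotient of degree five: coordinates
-/

set_option autoImplicit false
set_option linter.unusedSectionVars false
set_option linter.style.haveILetI false

namespace CfsgLib.Invol.EightTypeThree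

open Subgroup CfsgLib.Invol Equiv
open CfsgLib.ProdFusion (OC OC_le odd_card_OC le_OC)
open scoped IsMulCommutative

universe u

variable {G : Type u} [Group G] [Finite G]

/-- the data: coordinates on `A` equivariant under the normaliser -/
structure Frame (G : Type u) [Group G] [Finite G] where
  A : Subgroup G
  T : Sylow 2 G
  perm : G → P5
  v : M5 → G
  elem : Cfsg.IsElementaryAbelian 2 A
  card : Nat.card A = 16
  v_mul : ∀ f g, v (f + g) = v f * v g
  v_mem : ∀ f, v f ∈ A
  v_surj : ∀ a ∈ A, ∃ f, v f = a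
  v_eq_one : ∀ f, v f = 1 ↔ f = 0 ∨ f = 1
  conj : ∀ n ∈ normalizer (A : Set G), ∀ f, n * v f * n⁻¹ = v (act (perm n) f)
  perm_mul : ∀ g ∈ normalizer (A : Set G), ∀ h ∈ normalizer (A : Set G), perm (g * h) = perm g * perm h
  even : ∀ g ∈ normalizer (A : Set G), Perm.sign (perm g) = 1
  lift : ∀ σ : P5, Perm.sign σ = 1 → ∃ g ∈ normalizer (A : Set G), perm g = σ
  le_norm : (T : Subgroup G) ≤ normalizer (A : Set G)
  le_syl : A ≤ (T : Subgroup G)
  perm_four : ∀ t ∈ (T : Subgroup G), perm t ∈ fourList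
  mem_of_perm : ∀ t ∈ (T : Subgroup G), perm t = 1 → t ∈ A
  four_lift : ∀ σ ∈ fourList, ∃ t ∈ (T : Subgroup G), perm t = σ
  cent : ∀ n ∈ centralizer (A : Set G), ∃ c ∈ A, ∃ d ∈ OC (centralizer (A : Set G)), n = c * d
  three : Nat.card {c : ConjClasses G // ∃ x ∈ c.carrier, orderOf x = 2} = 3

/-- fixed points of an element whose fifth power centralises -/
theorem card_fixed_modEq {B : Subgroup G} {g : G} (hB : ∀ b ∈ B, g * b * g⁻¹ ∈ B)
    (h5 : ∀ b ∈ B, Commute (g ^ 5) b) :
    Nat.card (B ⊓ centralizer ({g} : Set G) : Subgroup G) % 5 = Nat.card B % 5 := by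
  classical
  haveI : Fact (Nat.Prime 5) := ⟨by norm_num⟩
  haveI := Fintype.ofFinite B
  let β : Equiv.Perm B := Equiv.ofBijective (fun b => ⟨g * b * g⁻¹, hB b b.2⟩)
    (Finite.injective_iff_bijective.1 fun a b e =>
      Subtype.ext (mul_left_cancel (mul_right_cancel (congrArg Subtype.val e))))
  have hpow : ∀ (k : ℕ) (b : B), (((β ^ k) b : B) : G) = g ^ k * b * (g ^ k)⁻¹ := by
    intro k
    induction k with
    | zero => intro b; simp
    | succ k ih =>
      intro b
      rw [pow_succ', Perm.mul_apply]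
      show g * (((β ^ k) b : B) : G) * g⁻¹ = _
      rw [ih, pow_succ']
      group
  have h1 : β ^ 5 ^ 1 = 1 := Equiv.ext fun b => Subtype.ext (by
    rw [pow_one, hpow, (h5 b b.2).eq, mul_inv_cancel_right]; rfl)
  have h2 := Equiv.Perm.card_compl_support_modEq (p := 5) h1
  rw [Nat.card_eq_fintype_card (α := B), ← h2, ← Nat.card_eq_finsetCard]
  congr 1
  refine Nat.card_congr ⟨fun x => ⟨⟨x, x.2.1⟩, ?_⟩, fun x => ⟨x.1, x.1.2, ?_⟩, fun x => rfl, fun x => rfl⟩
  · rw [Finset.mem_compl, Perm.notMem_support]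
    refine Subtype.ext ?_
    show g * (x : G) * g⁻¹ = x
    rw [← mem_centralizer_singleton_iff.1 x.2.2, mul_inv_cancel_right]
  · have hx := x.2
    rw [Finset.mem_compl, Perm.notMem_support] at hx
    refine mem_centralizer_singleton_iff.2 ?_
    have : g * ((x : B) : G) * g⁻¹ = ((x : B) : G) := congrArg Subtype.val hx
    exact (mul_inv_eq_iff_eq_mul.1 this).symm

/-- **coordinates from the hypotheses** on the order and the centre of a Sylow subgroup -/
theorem exists_frame_of (S : Sylow 2 G) (hS64 : Nat.card (S : Subgroup G) = 2 ^ 6)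
    (hScen : ∀ a b : ↥(S : Subgroup G), a ≠ 1 → b ≠ 1 → (∀ c, a * c = c * a) → (∀ c, b * c = c * b) → a = b)
    (h3 : Nat.card {c : ConjClasses G // ∃ x ∈ c.carrier, orderOf x = 2} = 3)
    (A : Subgroup G) (hA : Cfsg.IsElementaryAbelian 2 A) (hA16 : Nat.card A = 16)
    (hNA : ∃ (_ : (A.subgroupOf (normalizer (A : Set G)) ⊔ Cfsg.oddCore ↥(normalizer (A : Set G))).Normal),
      Nonempty (↥(normalizer (A : Set G)) ⧸
        (A.subgroupOf (normalizer (A : Set G)) ⊔ Cfsg.oddCore ↥(normalizer (A : Set G))) ≃*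
        ↥(alternatingGroup (Fin 5)))) :
    ∃ F : Frame G, F.A = A := by
  classical
  haveI : Fact (Nat.Prime 2) := ⟨Nat.prime_two⟩
  haveI : IsMulCommutative A := hA.1
  obtain ⟨gs1, gs2, gs3, gc3, gc5, gc55, gc51, gmul, gnorm, gcard, gtau⟩ := gen_facts
  have hA2 : ∀ a ∈ A, a * a = 1 := fun a ha => by rw [← pow_two]; exact hA.2 a ha
  set N := normalizer (A : Set G) with hN
  set A' := A.subgroupOf N with hA'
  set O := Cfsg.oddCore ↥N with hO
  obtain ⟨hnorm, ⟨e⟩⟩ := hNA
  set K := A' ⊔ O with hK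
  haveI := hnorm
  haveI hA'n : A'.Normal := normal_in_normalizer
  haveI : O.Normal := by
    haveI := CfsgLib.Coprime.pPrimeCore_characteristic (G := N) 2
    infer_instance
  have hOodd : Odd (Nat.card O) :=
    CfsgLib.ProdFusion.odd_iff_coprime.2 (CfsgLib.Coprime.pPrimeCore_coprime Nat.prime_two)
  have hA'c : Nat.card A' = 16 := (Nat.card_congr (subgroupOfEquivOfLe le_normalizer).toEquiv).trans hA16
  have hdis : ∀ x ∈ A', x ∈ O → x = 1 := fun x hxA hxO =>
    CfsgLib.ProdFusion.eq_one_of_sq hOodd hxO (Subtype.ext (hA2 _ hxA))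
  have hAO : ∀ a ∈ A', ∀ o ∈ O, Commute a o := fun a ha o ho =>
    Subgroup.commute_of_normal_of_disjoint A' O hA'n inferInstance
      (disjoint_def.2 fun {x} h1 h2 => hdis x h1 h2) a o ha ho
  have hKmem : ∀ k ∈ K, ∃ a ∈ A', ∃ o ∈ O, a * o = k := fun k hk => by
    rwa [← SetLike.mem_coe, hK, normal_mul, Set.mem_mul] at hk
  have hKcard : Nat.card K = 16 * Nat.card O := by
    refine Nat.dvd_antisymm ?_ ?_
    · have := CfsgLib.Coprime.card_sup_dvd_of_normal A' O
      rwa [hA'c] at this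
    · refine Nat.Coprime.mul_dvd_of_dvd_of_dvd ?_ ?_ (card_dvd_of_le le_sup_right)
      · exact (show (16 : ℕ) = 2 ^ 4 by norm_num) ▸
          Nat.Coprime.pow_left _ (CfsgLib.ProdFusion.odd_iff_coprime.1 hOodd).symm
      · exact hA'c ▸ card_dvd_of_le le_sup_left
  have hKcomm : ∀ k ∈ K, ∀ a ∈ A, Commute (k : G) a := by
    intro k hk a ha
    obtain ⟨b, hb, o, ho, rfl⟩ := hKmem k hk
    refine Commute.mul_left (CfsgLib.EABasic.comm_of_isElementaryAbelian hA hb ha) ?_
    exact congrArg Subtype.val (hAO ⟨a, le_normalizer ha⟩ ha o ho).symm.eq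
  -- the quotient map
  let f : N →* alternatingGroup (Fin 5) := e.toMonoidHom.comp (QuotientGroup.mk' K)
  have hfs : Function.Surjective f := e.surjective.comp (QuotientGroup.mk'_surjective K)
  have hfk : ∀ n : N, f n = 1 ↔ n ∈ K := fun n => by
    show e (QuotientGroup.mk' K n) = 1 ↔ _
    rw [EmbeddingLike.map_eq_one_iff]
    exact QuotientGroup.eq_one_iff n
  have hNcard : Nat.card N = 960 * Nat.card O := by
    have h1 := K.card_mul_index
    rw [index_eq_card, Nat.card_congr e.toEquiv, Nat.card_eq_fintype_card (α := alternatingGroup (Fin 5))] at h1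
    have h2 := two_mul_card_alternatingGroup (α := Fin 5)
    rw [Fintype.card_perm, Fintype.card_fin, show (5 : ℕ).factorial = 120 from rfl] at h2
    rw [← h1, hKcard]
    have h3 : Fintype.card (alternatingGroup (Fin 5)) = 60 := by omega
    rw [h3]; ring
  -- the four-group and a Sylow subgroup over it
  let V : Subgroup (alternatingGroup (Fin 5)) :=
    (subgroupOfIdempotent {g : P5 | g ∈ fourList} ⟨1, List.mem_cons_self⟩ (by
      ext g
      refine ⟨?_, fun hg => ⟨1, List.mem_cons_self, g, hg, one_mul g⟩⟩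
      rintro ⟨a, ha, b, hb, rfl⟩
      exact gmul a ha b hb)).subgroupOf (alternatingGroup (Fin 5))
  have hV : ∀ s : alternatingGroup (Fin 5), s ∈ V ↔ (s : P5) ∈ fourList := fun s => Iff.rfl
  have hVcard : Nat.card V = 4 := by
    rw [← gcard, ← Nat.card_eq_finsetCard]
    have hev : ∀ σ ∈ fourList, Perm.sign σ = 1 := by decide +kernel
    exact Nat.card_congr ⟨fun s => ⟨((s : alternatingGroup (Fin 5)) : P5), List.mem_toFinset.2 ((hV _).1 s.2)⟩,
      fun σ => ⟨⟨σ, Perm.mem_alternatingGroup.2 (hev _ (List.mem_toFinset.1 σ.2))⟩,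
        (hV _).2 (List.mem_toFinset.1 σ.2)⟩, fun _ => rfl, fun _ => rfl⟩
  have hL : Nat.card (V.comap f) = 64 * Nat.card O := by
    have h1 := (V.comap f).card_mul_index
    rw [index_comap_of_surjective _ hfs, hNcard] at h1
    have h2 := V.card_mul_index
    rw [hVcard, Nat.card_eq_fintype_card (α := alternatingGroup (Fin 5))] at h2
    have h4 := two_mul_card_alternatingGroup (α := Fin 5)
    rw [Fintype.card_perm, Fintype.card_fin, show (5 : ℕ).factorial = 120 from rfl] at h4
    have h3 : V.index = 15 := by omega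
    rw [h3] at h1
    omega
  obtain ⟨R, hR⟩ := Sylow.exists_subgroup_card_pow_prime 2 (n := 6) (G := V.comap f)
    (by rw [hL]; exact dvd_mul_right _ _)
  set R₀ : Subgroup G := (R.map (V.comap f).subtype).map N.subtype with hR₀
  have hR₀c : Nat.card R₀ = 2 ^ 6 := by
    rw [hR₀, card_map_of_injective (subtype_injective _), card_map_of_injective (subtype_injective _), hR]
  let T : Sylow 2 G := Sylow.ofCard R₀ (by rw [hR₀c, ← hS64, S.card_eq_multiplicity])
  have hTR : (T : Subgroup G) = R₀ := rfl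
  have hTN : (T : Subgroup G) ≤ N := map_subtype_le _
  have hTV : ∀ (t : G) (ht : t ∈ (T : Subgroup G)), (f ⟨t, hTN ht⟩ : P5) ∈ fourList := by
    rintro t ⟨y, ⟨x, hx, rfl⟩, rfl⟩
    exact (hV _).1 x.2
  have hAT : A ≤ (T : Subgroup G) := by
    have h2 : IsPGroup 2 ((T : Subgroup G) ⊔ A : Subgroup G) :=
      IsPGroup.to_sup_of_normal_right' T.2 (isPGroup_of_isElementaryAbelian hA) hTN
    exact le_sup_right.trans (T.3 h2 le_sup_left).le
  have hTA : ∀ (t : G) (ht : t ∈ (T : Subgroup G)), f ⟨t, hTN ht⟩ = 1 → t ∈ A := by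
    intro t ht h1
    obtain ⟨a, ha, o, ho, he⟩ := hKmem _ ((hfk _).1 h1)
    have he' : (a : G) * (o : G) = t := congrArg Subtype.val he
    have hoT : (o : G) ∈ (T : Subgroup G) := by
      have := (T : Subgroup G).mul_mem ((T : Subgroup G).inv_mem (hAT (show (a : G) ∈ A from ha))) ht
      rwa [← he', inv_mul_cancel_left] at this
    obtain ⟨s, hs⟩ := orderOf_pow_two_of_mem hoT
    have h2 : Odd (orderOf (o : G)) := by
      rw [Subgroup.orderOf_coe]
      exact CfsgLib.ProdFusion.odd_orderOf_of_mem hOodd ho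
    rw [← he', eq_one_of_odd_of_pow_two h2 (by rw [← hs, pow_orderOf_eq_one]), mul_one]
    exact ha
  let ψ : ↥(T : Subgroup G) →* alternatingGroup (Fin 5) := f.comp (Subgroup.inclusion hTN)
  have hψ : ψ.range = V := by
    refine Subgroup.eq_of_le_of_card_ge ?_ ?_
    · rintro _ ⟨t, rfl⟩
      exact (hV _).2 (hTV t t.2)
    · have h1 := ψ.ker.card_mul_index
      rw [index_ker, show Nat.card ↥(T : Subgroup G) = 64 from hR₀c] at h1
      have h2 : Nat.card ψ.ker ∣ 16 := by
        rw [← hA16, ← card_map_of_injective (K := ψ.ker) (subtype_injective (T : Subgroup G))]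
        refine card_dvd_of_le ?_
        rintro _ ⟨t, ht, rfl⟩
        exact hTA t t.2 ht
      have h3 : Nat.card ψ.ker ≤ 16 := Nat.le_of_dvd (by norm_num) h2
      rw [hVcard]
      nlinarith
  have hlift : ∀ σ ∈ fourList, ∃ (t : G) (ht : t ∈ (T : Subgroup G)), (f ⟨t, hTN ht⟩ : P5) = σ := by
    intro σ hσ
    have hev : ∀ σ ∈ fourList, Perm.sign σ = 1 := by decide +kernel
    have h1 : (⟨σ, Perm.mem_alternatingGroup.2 (hev σ hσ)⟩ : alternatingGroup (Fin 5)) ∈ ψ.range :=
      hψ ▸ (hV _).2 hσ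
    obtain ⟨t, ht⟩ := h1
    exact ⟨t, t.2, congrArg Subtype.val ht⟩
  -- the central involution of `T`
  have eT := Sylow.equiv T S
  have huniq : ∀ a ∈ (T : Subgroup G), ∀ b ∈ (T : Subgroup G), a ≠ 1 → b ≠ 1 →
      (∀ c ∈ (T : Subgroup G), a * c = c * a) → (∀ c ∈ (T : Subgroup G), b * c = c * b) → a = b := by
    intro a ha b hb ha1 hb1 hca hcb
    have key : ∀ (x : G) (hx : x ∈ (T : Subgroup G)), (∀ c ∈ (T : Subgroup G), x * c = c * x) →
        ∀ c, eT ⟨x, hx⟩ * c = c * eT ⟨x, hx⟩ := fun x hx hc c => by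
      rw [← eT.apply_symm_apply c, ← map_mul, ← map_mul]
      exact congrArg eT (Subtype.ext (hc _ (eT.symm c).2))
    exact congrArg Subtype.val (eT.injective (hScen (eT ⟨a, ha⟩) (eT ⟨b, hb⟩)
      (fun e => ha1 (congrArg Subtype.val ((EmbeddingLike.map_eq_one_iff (f := eT)).1 e)))
      (fun e => hb1 (congrArg Subtype.val ((EmbeddingLike.map_eq_one_iff (f := eT)).1 e)))
      (key a ha hca) (key b hb hcb)))
  -- the centraliser of `A` is the kernel
  have hcK : ∀ n : N, (∀ a ∈ A, Commute (n : G) a) → n ∈ K := by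
    intro n hn
    set C : Subgroup N := (centralizer (A : Set G)).subgroupOf N with hC
    haveI : C.Normal := normal_subgroupOf_of_le_normalizer
      (CfsgLib.Coprime.normalizer_le_normalizer_centralizer A)
    have hnC : n ∈ C := mem_centralizer_iff.2 fun a ha => (hn a ha).symm.eq
    haveI : (C.map f).Normal := Subgroup.Normal.map inferInstance f hfs
    rcases IsSimpleGroup.eq_bot_or_eq_top_of_normal (C.map f) inferInstance with h | h
    · exact (hfk n).1 (by simpa [h] using mem_map_of_mem f hnC)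
    · exfalso
      have hall : ∀ m : N, ∀ a ∈ A, Commute (m : G) a := by
        intro m a ha
        obtain ⟨c, hc, he⟩ : f m ∈ C.map f := h ▸ mem_top _
        have h1 : c⁻¹ * m ∈ K := (hfk _).1 (by rw [map_mul, map_inv, he, inv_mul_cancel])
        have h2 := (mem_centralizer_iff.1 (show (c : G) ∈ centralizer (A : Set G) from hc) a ha)
        have h3 := Commute.mul_left (show Commute (c : G) a from h2.symm) (hKcomm _ h1 a ha)
        simpa using h3
      obtain ⟨⟨a, ha⟩, ha1, -⟩ : ∃ a : A, a ≠ 1 ∧ True := by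
        haveI : Nontrivial A := Finite.one_lt_card_iff_nontrivial.1 (by omega)
        obtain ⟨a, ha⟩ := exists_ne (1 : A)
        exact ⟨a, ha, trivial⟩
      have hall' : ∀ b ∈ A, b = 1 ∨ b = a := fun b hb => or_iff_not_imp_left.2 fun hb1 =>
        huniq b (hAT hb) a (hAT ha) hb1 (fun e => ha1 (Subtype.ext e))
          (fun c hc => ((hall ⟨c, hTN hc⟩ b hb).symm).eq) (fun c hc => ((hall ⟨c, hTN hc⟩ a ha).symm).eq)
      have hinj : Function.Injective fun b : A => decide ((b : G) = 1) := by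
        intro b c hbc
        rcases hall' b b.2 with h1 | h1 <;> rcases hall' c c.2 with h2 | h2 <;>
          first
            | exact Subtype.ext (h1.trans h2.symm)
            | exact absurd hbc (by simp [h1, h2, show a ≠ 1 from fun e => ha1 (Subtype.ext e)])
      have := Nat.card_le_card_of_injective _ hinj
      simp [hA16] at this
  obtain ⟨z, hzT, hz1, hzc⟩ : ∃ z ∈ (T : Subgroup G), z ≠ 1 ∧ ∀ c ∈ (T : Subgroup G), z * c = c * z := by
    haveI : Nontrivial ↥(T : Subgroup G) :=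
      Finite.one_lt_card_iff_nontrivial.1 (by rw [hTR, hR₀c]; norm_num)
    haveI := IsPGroup.center_nontrivial T.2
    obtain ⟨⟨⟨z, hz⟩, hzc⟩, hz1⟩ := exists_ne (1 : center ↥(T : Subgroup G))
    exact ⟨z, hz, fun e => hz1 (Subtype.ext (Subtype.ext e)), fun c hc =>
      congrArg Subtype.val (mem_center_iff.1 hzc ⟨c, hc⟩).symm⟩
  have hzA : z ∈ A := hTA z hzT ((hfk _).2 (hcK _ fun a ha => hzc a (hAT ha)))
  -- the five points
  let zc : alternatingGroup (Fin 5) → G := fun s => (Function.surjInv hfs s : N) * z * ((Function.surjInv hfs s : N) : G)⁻¹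
  have hzc' : ∀ (n : N), (n : G) * z * (n : G)⁻¹ = zc (f n) := by
    intro n
    set m := Function.surjInv hfs (f n) with hm
    have h1 : m⁻¹ * n ∈ K := (hfk _).1 (by
      rw [map_mul, map_inv, hm, Function.surjInv_eq hfs, inv_mul_cancel])
    have h2 := (hKcomm _ h1 z hzA).eq
    show (n : G) * z * (n : G)⁻¹ = (m : G) * z * (m : G)⁻¹
    push_cast at h2
    calc (n : G) * z * (n : G)⁻¹ = (m : G) * ((m : G)⁻¹ * n * z) * (n : G)⁻¹ := by group
      _ = (m : G) * (z * ((m : G)⁻¹ * n)) * (n : G)⁻¹ := by rw [h2]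
      _ = (m : G) * z * (m : G)⁻¹ := by group
  have hzmul : ∀ s t, zc (s * t) = (Function.surjInv hfs s : N) * zc t * ((Function.surjInv hfs s : N) : G)⁻¹ := by
    intro s t
    have e := hzc' (Function.surjInv hfs s * Function.surjInv hfs t)
    rw [map_mul, Function.surjInv_eq hfs, Function.surjInv_eq hfs] at e
    rw [← e]
    show _ = _ * ((Function.surjInv hfs t : N) * z * ((Function.surjInv hfs t : N) : G)⁻¹) * _
    push_cast
    group
  have hz0 : zc 1 = z := by simpa using (hzc' 1).symm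
  have hzfix : ∀ s t, zc s = z → zc t = z → zc (s * t) = z := fun s t h1 h2 => by
    rw [hzmul, h2]; exact h1
  have hzV : ∀ s : alternatingGroup (Fin 5), (s : P5) ∈ fourList → zc s = z := by
    intro s hs
    obtain ⟨t, ht, hts⟩ := hlift _ hs
    rw [← Subtype.ext hts, ← hzc']
    show t * z * t⁻¹ = z
    rw [← hzc t ht, mul_inv_cancel_right]
  have hz3 : zc ⟨c₃, Perm.mem_alternatingGroup.2 gc3⟩ = z := by
    set n := Function.surjInv hfs ⟨c₃, Perm.mem_alternatingGroup.2 gc3⟩ with hn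
    refine huniq _ (hAT ?_) z hzT (fun e => hz1 (conj_eq_one_iff.1 e)) hz1 (fun c hc => ?_) hzc
    · exact (mem_normalizer_iff.1 n.2 z).1 hzA
    · have h1 : (f (n⁻¹ * ⟨c, hTN hc⟩ * n) : P5) ∈ fourList := by
        rw [map_mul, map_mul, map_inv, hn, Function.surjInv_eq hfs]
        exact (gnorm _ (hTV c hc)).2
      have h2 := hzV _ h1
      rw [← hzc'] at h2
      push_cast at h2
      show (n : G) * z * (n : G)⁻¹ * c = c * ((n : G) * z * (n : G)⁻¹)
      calc (n : G) * z * (n : G)⁻¹ * c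
          = (n : G) * z * ((n : G)⁻¹ * c * n) * (n : G)⁻¹ := by group
        _ = (n : G) * (((n : G)⁻¹ * c * n) * z * ((n : G)⁻¹ * c * n)⁻¹) * ((n : G)⁻¹ * c * n) * (n : G)⁻¹ := by
          rw [h2]
        _ = c * ((n : G) * z * (n : G)⁻¹) := by group
  have hzstab : ∀ s : alternatingGroup (Fin 5), (s : P5) 4 = 4 → zc s = z := by
    intro s hs
    set c : alternatingGroup (Fin 5) := ⟨c₃, Perm.mem_alternatingGroup.2 gc3⟩ with hc
    have hev : ∀ σ ∈ fourList, Perm.sign σ = 1 := by decide +kernel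
    obtain ⟨a, ha, h'⟩ := List.mem_flatMap.1 (stab_list _ (Perm.mem_alternatingGroup.1 s.2) hs)
    set a' : alternatingGroup (Fin 5) := ⟨a, Perm.mem_alternatingGroup.2 (hev a ha)⟩ with ha'
    simp only [List.mem_cons, List.not_mem_nil, or_false] at h'
    rcases h' with h' | h' | h'
    · rw [show s = a' from Subtype.ext h']; exact hzV _ ha
    · rw [show s = a' * c from Subtype.ext h']; exact hzfix _ _ (hzV _ ha) hz3
    · rw [show s = a' * (c * c) from Subtype.ext h']; exact hzfix _ _ (hzV _ ha) (hzfix _ _ hz3 hz3)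
  set τ : Fin 5 → alternatingGroup (Fin 5) :=
    fun i => ⟨c₅, Perm.mem_alternatingGroup.2 gc5⟩ ^ (i.val + 1) with hτ
  have hτ4 : ∀ i, (τ i : P5) 4 = i := fun i => by
    show ((c₅ ^ (i.val + 1) : P5)) 4 = i
    exact gtau i
  let p : Fin 5 → G := fun i => zc (τ i)
  have hzp : ∀ s, zc s = p ((s : P5) 4) := by
    intro s
    have h1 : zc ((τ ((s : P5) 4))⁻¹ * s) = z := hzstab _ (by
      show ((τ ((s : P5) 4) : P5))⁻¹ ((s : P5) 4) = 4
      rw [Perm.inv_eq_iff_eq, hτ4])
    have h2 := hzmul (τ ((s : P5) 4)) ((τ ((s : P5) 4))⁻¹ * s)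
    rw [mul_inv_cancel_left, h1] at h2
    exact h2
  have hpconj : ∀ (n : N) i, (n : G) * p i * (n : G)⁻¹ = p ((f n : P5) i) := by
    intro n i
    have e := hzc' (n * Function.surjInv hfs (τ i))
    rw [map_mul, Function.surjInv_eq hfs, hzp, show ((f n * τ i : alternatingGroup (Fin 5)) : P5) 4 = (f n : P5) ((τ i : P5) 4) from rfl, hτ4] at e
    rw [← e]
    show (n : G) * ((Function.surjInv hfs (τ i) : N) * z * ((Function.surjInv hfs (τ i) : N) : G)⁻¹) * _ = _
    push_cast
    group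
  have hpA : ∀ i, p i ∈ A := fun i => (mem_normalizer_iff.1 (Function.surjInv hfs (τ i)).2 z).1 hzA
  -- the element of order five
  obtain ⟨n₅, hn₅⟩ := hfs ⟨c₅, Perm.mem_alternatingGroup.2 gc5⟩
  have h55 : n₅ ^ 5 ∈ K := (hfk _).1 (by rw [map_pow, hn₅]; exact Subtype.ext gc55)
  have hfix : ∀ B : Subgroup G, B ≤ A → (∀ b ∈ B, (n₅ : G) * b * (n₅ : G)⁻¹ ∈ B) →
      Nat.card (B ⊓ centralizer ({(n₅ : G)} : Set G) : Subgroup G) % 5 = Nat.card B % 5 :=
    fun B hB hinv => card_fixed_modEq hinv fun b hb => hKcomm _ h55 b (hB hb)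
  have hfpf : ∀ a ∈ A, Commute (n₅ : G) a → a = 1 := by
    intro a ha hc
    have h := hfix A le_rfl fun b hb => (mem_normalizer_iff.1 n₅.2 b).1 hb
    set C := A ⊓ centralizer ({(n₅ : G)} : Set G) with hC
    have hd : Nat.card C ∣ 2 ^ 4 := by
      rw [show (2 : ℕ) ^ 4 = 16 from rfl, ← hA16]; exact card_dvd_of_le inf_le_left
    obtain ⟨k, hk, hk'⟩ := (Nat.dvd_prime_pow Nat.prime_two).1 hd
    rw [hA16, hk'] at h
    interval_cases k <;> norm_num at h
    · rw [pow_zero] at hk'
      have : a ∈ (⊥ : Subgroup G) :=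
        Subgroup.eq_bot_of_card_eq C hk' ▸ ⟨ha, mem_centralizer_singleton_iff.2 hc.eq.symm⟩
      simpa using this
    · exfalso
      have hCA : C = A := Subgroup.eq_of_le_of_card_ge inf_le_left (by rw [hA16, hk']; norm_num)
      have h1 : n₅ ∈ K := hcK n₅ fun b hb =>
        (mem_centralizer_singleton_iff.1 (hCA.symm.le hb).2).symm
      rw [← hfk, hn₅] at h1
      exact gc51 (congrArg Subtype.val h1)
  have hpinj : Function.Injective p := by
    intro i j hij
    by_contra hne
    have hall : ∀ k, p k = p 4 := by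
      intro k
      by_cases hk : k = 4
      · rw [hk]
      obtain ⟨σ, hσ, hi, hj⟩ := two_transitive i j hne k hk
      obtain ⟨n, hn⟩ := hfs ⟨σ, Perm.mem_alternatingGroup.2 hσ⟩
      have hn' : (f n : P5) = σ := congrArg Subtype.val hn
      have e1 := hpconj n i
      have e2 := hpconj n j
      rw [hn', hi] at e1
      rw [hn', hj, ← hij] at e2
      rw [← e2, e1]
    have h1 := hpconj n₅ 4
    rw [hall ((f n₅ : P5) 4)] at h1
    have h2 : Commute (n₅ : G) (p 4) := mul_inv_eq_iff_eq_mul.1 h1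
    refine hz1 ?_
    have h3 := hfpf _ (hpA 4) h2
    rwa [← hzstab 1 rfl, hzp]
  -- coordinates
  let pa : Fin 5 → A := fun i => ⟨p i, hpA i⟩
  have hpa2 : ∀ i, pa i ^ 2 = 1 := fun i => Subtype.ext (hA.2 _ (hpA i))
  let w : M5 → A := fun f => ∏ i, pa i ^ (f i).val
  have hwmul : ∀ f g, w (f + g) = w f * w g := fun f g => by
    rw [← Finset.prod_mul_distrib]
    refine Finset.prod_congr rfl fun i _ => ?_
    rw [Pi.add_apply, ZMod.val_add, ← pow_add, ← pow_eq_pow_mod _ (hpa2 i)]
  have hwsingle : ∀ i, w (Pi.single i 1) = pa i := fun i => by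
    show ∏ j, pa j ^ ((Pi.single i 1 : M5) j).val = pa i
    rw [Finset.prod_eq_single i (fun j _ hj => by rw [Pi.single_eq_of_ne hj, ZMod.val_zero, pow_zero])
      (fun h => absurd (Finset.mem_univ _) h), Pi.single_eq_same]
    rw [show (1 : ZMod 2).val = 1 from rfl, pow_one]
  have hwconj : ∀ (n : N) (x : M5), (n : G) * (w x : G) * (n : G)⁻¹ = (w (act (f n : P5) x) : G) := by
    intro n x
    let cn : A →* A := MonoidHom.mk' (fun a => ⟨(n : G) * a * (n : G)⁻¹, (mem_normalizer_iff.1 n.2 _).1 a.2⟩)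
      (fun a b => Subtype.ext (by push_cast; group))
    show ((cn (w x) : A) : G) = _
    congr 1
    show cn (∏ i, pa i ^ (x i).val) = ∏ i, pa i ^ (act (f n : P5) x i).val
    rw [map_prod, ← Equiv.prod_comp (f n : P5) (fun i => pa i ^ (act (f n : P5) x i).val)]
    refine Finset.prod_congr rfl fun i _ => ?_
    rw [map_pow, show act (f n : P5) x ((f n : P5) i) = x i by simp [act]]
    congr 1
    exact Subtype.ext (hpconj n i)
  have hw0 : w 0 = 1 := Finset.prod_eq_one fun i _ => by simp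
  have hw1 : w 1 = 1 := Subtype.ext (hfpf _ (w 1).2 (mul_inv_eq_iff_eq_mul.1 (hwconj n₅ 1)))
  let wh : Multiplicative M5 →* A :=
    MonoidHom.mk' (fun x => w x.toAdd) (fun x y => hwmul x.toAdd y.toAdd)
  have hwsurj : Function.Surjective wh := by
    set B := wh.range.map A.subtype with hB
    have hBA : B ≤ A := map_subtype_le _
    have hBinv : ∀ b ∈ B, (n₅ : G) * b * (n₅ : G)⁻¹ ∈ B := by
      rintro _ ⟨_, ⟨x, rfl⟩, rfl⟩
      exact ⟨_, ⟨Multiplicative.ofAdd (act (f n₅ : P5) x.toAdd), rfl⟩, (hwconj n₅ x.toAdd).symm⟩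
    have h := hfix B hBA hBinv
    have h1 : B ⊓ centralizer ({(n₅ : G)} : Set G) = ⊥ := eq_bot_iff.2 fun b hb =>
      mem_bot.2 (hfpf b (hBA hb.1) (mem_centralizer_singleton_iff.1 hb.2).symm)
    rw [h1, card_bot] at h
    have h5 : 5 ≤ Nat.card B := by
      have hle := Nat.card_le_card_of_injective (fun i : Fin 5 => (⟨p i, ⟨pa i,
        ⟨Multiplicative.ofAdd (Pi.single i 1), hwsingle i⟩, rfl⟩⟩ : B))
        (fun i j e => hpinj (congrArg Subtype.val e))
      simpa using hle
    have hd : Nat.card B ∣ 2 ^ 4 := by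
      rw [show (2 : ℕ) ^ 4 = 16 from rfl, ← hA16]; exact card_dvd_of_le hBA
    obtain ⟨k, hk, hk'⟩ := (Nat.dvd_prime_pow Nat.prime_two).1 hd
    rw [hk'] at h h5
    have hBeq : B = A := Subgroup.eq_of_le_of_card_ge hBA (by
      rw [hA16, hk']; interval_cases k <;> omega)
    intro a
    obtain ⟨b, ⟨x, hx⟩, hb⟩ := hBeq.symm.le a.2
    exact ⟨x, hx.trans (Subtype.ext hb)⟩
  have hker : ∀ x : M5, w x = 1 ↔ x = 0 ∨ x = 1 := by
    have h1 := wh.ker.card_mul_index
    rw [index_ker, MonoidHom.range_eq_top.2 hwsurj, card_top, hA16] at h1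
    have h32 : Nat.card (Multiplicative M5) = 32 := by
      rw [Nat.card_congr Multiplicative.toAdd, Nat.card_eq_fintype_card]; rfl
    rw [h32] at h1
    intro x
    refine ⟨fun hx => ?_, by rintro (rfl | rfl) <;> assumption⟩
    haveI := Fintype.ofFinite wh.ker
    by_contra hne
    push Not at hne
    have h2 : ({1, Multiplicative.ofAdd 1, Multiplicative.ofAdd x} : Finset (Multiplicative M5)).card ≤ 2 := by
      refine le_trans ?_ (show Nat.card wh.ker ≤ 2 by omega)
      rw [Nat.card_eq_fintype_card, ← Fintype.card_coe]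
      refine Fintype.card_le_of_injective (fun y => (⟨y.1, ?_⟩ : wh.ker)) fun a b e =>
        Subtype.ext (Subtype.mk.inj e)
      have := y.2
      simp only [Finset.mem_insert, Finset.mem_singleton] at this
      rcases this with e | e | e <;> rw [MonoidHom.mem_ker, e]
      · exact map_one _
      · exact hw1
      · exact hx
    rw [Finset.card_insert_of_notMem, Finset.card_insert_of_notMem, Finset.card_singleton] at h2
    · omega
    · simp [Ne.symm hne.2]
    · simp only [Finset.mem_insert, Finset.mem_singleton, not_or]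
      exact ⟨fun e => one_ne_zero (congrFun (congrArg Multiplicative.toAdd e) (0 : Fin 5)).symm, fun e => hne.1 (Multiplicative.ofAdd.injective e).symm⟩
  -- assemble
  let pm : G → P5 := fun g => if h : g ∈ N then (f ⟨g, h⟩ : P5) else 1
  have hpm : ∀ (g : G) (h : g ∈ N), pm g = (f ⟨g, h⟩ : P5) := fun g h => dif_pos h
  refine ⟨{
    A := A, T := T, perm := pm, v := fun x => (w x : G), elem := hA, card := hA16,
    v_mul := fun x y => congrArg Subtype.val (hwmul x y)
    v_mem := fun x => (w x).2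
    v_surj := fun a ha => ?_
    v_eq_one := fun x => by rw [OneMemClass.coe_eq_one]; exact hker x
    conj := fun n hn x => by rw [hpm n hn]; exact hwconj ⟨n, hn⟩ x
    perm_mul := fun g hg h hh => by
      rw [hpm _ (N.mul_mem hg hh), hpm g hg, hpm h hh, ← Subgroup.coe_mul, ← map_mul]; rfl
    even := fun g hg => by rw [hpm g hg]; exact Perm.mem_alternatingGroup.1 (f ⟨g, hg⟩).2
    lift := fun σ hσ => ?_
    le_norm := hTN, le_syl := hAT
    perm_four := fun t ht => by rw [hpm t (hTN ht)]; exact hTV t ht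
    mem_of_perm := fun t ht h1 => hTA t ht (Subtype.ext (by rw [← hpm t (hTN ht), h1]; rfl))
    four_lift := fun σ hσ => ?_
    cent := fun n hn => ?_
    three := h3 }, rfl⟩
  · obtain ⟨x, hx⟩ := hwsurj ⟨a, ha⟩
    exact ⟨x.toAdd, congrArg Subtype.val hx⟩
  · obtain ⟨g, hg⟩ := hfs ⟨σ, Perm.mem_alternatingGroup.2 hσ⟩
    exact ⟨g, g.2, by rw [hpm _ g.2]; exact congrArg Subtype.val hg⟩
  · obtain ⟨t, ht, hts⟩ := hlift σ hσ
    exact ⟨t, ht, by rw [hpm t (hTN ht)]; exact hts⟩
  · have hnN : n ∈ N := CfsgLib.Coprime.centralizer_le_normalizer_self _ hn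
    obtain ⟨a, ha, o, ho, he⟩ := hKmem _ (hcK ⟨n, hnN⟩ fun b hb => (mem_centralizer_iff.1 hn b hb).symm)
    refine ⟨a, ha, o, ?_, congrArg Subtype.val he.symm⟩
    have hle : O.map N.subtype ≤ centralizer (A : Set G) := by
      rintro _ ⟨x, hx, rfl⟩
      exact mem_centralizer_iff.2 fun b hb => (hKcomm x (mem_sup_right hx) b hb).symm.eq
    refine le_OC hle (by rw [card_map_of_injective (subtype_injective _)]; exact hOodd) ?_ ⟨o, ho, rfl⟩
    intro m hm
    refine CfsgLib.ProdFusion.mem_of_forall_conj_mem ?_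
    rintro _ ⟨x, hx, rfl⟩
    have hmN : m ∈ N := CfsgLib.Coprime.centralizer_le_normalizer_self _ hm
    exact ⟨⟨m, hmN⟩ * x * ⟨m, hmN⟩⁻¹, Subgroup.Normal.conj_mem inferInstance x hx _, rfl⟩

/-- **coordinates from the hypotheses** -/
theorem exists_frame (S : Sylow 2 G) (P : Sylow 2 ↥(alternatingGroup (Fin 8)))
    (hS : Nonempty (↥(S : Subgroup G) ≃* ↥(P : Subgroup ↥(alternatingGroup (Fin 8)))))
    (h3 : Nat.card {c : ConjClasses G // ∃ x ∈ c.carrier, orderOf x = 2} = 3)
    (A : Subgroup G) (hA : Cfsg.IsElementaryAbelian 2 A) (hA16 : Nat.card A = 16)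
    (hNA : ∃ (_ : (A.subgroupOf (normalizer (A : Set G)) ⊔ Cfsg.oddCore ↥(normalizer (A : Set G))).Normal),
      Nonempty (↥(normalizer (A : Set G)) ⧸
        (A.subgroupOf (normalizer (A : Set G)) ⊔ Cfsg.oddCore ↥(normalizer (A : Set G))) ≃*
        ↥(alternatingGroup (Fin 5)))) :
    ∃ F : Frame G, F.A = A := by
  obtain ⟨eS⟩ := hS
  obtain ⟨hP64, hPcen⟩ := sylow_facts P
  refine exists_frame_of S (by rw [Nat.card_congr eS.toEquiv, hP64]; rfl) (fun a b ha hb hca hcb => ?_) h3 A hA hA16 hNA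
  refine eS.injective (hPcen _ _ (fun e => ha ((EmbeddingLike.map_eq_one_iff (f := eS)).1 e))
    (fun e => hb ((EmbeddingLike.map_eq_one_iff (f := eS)).1 e)) (fun c => ?_) fun c => ?_)
  · rw [← eS.apply_symm_apply c, ← map_mul, ← map_mul, hca]
  · rw [← eS.apply_symm_apply c, ← map_mul, ← map_mul, hcb]

end CfsgLib.Invol.EightTypeThree
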