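import Cfsg.Agent.Lib.Invol.Basic
import Cfsg.Agent.Lib.Invol.Signalizer
import Cfsg.Agent.Lib.SolvSignalizer.Main
import Cfsg.Agent.Lib.ProdFusion.OddQuot
import Cfsg.Agent.Lib.Spor.HeldTri.Reach
import Cfsg.Agent.S0205

/-!
# A strongly closed elementary subgroup with factorised centralisers
-/

set_option autoImplicit false
set_option linter.unusedSectionVars false
set_option linter.style.haveILetI false

namespace CfsgLib.Invol.EightTypeThree

open Subgroup CfsgLib.Invol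
open CfsgLib.ProdFusion (OC OC_le odd_card_OC le_OC le_normalizer_OC_self le_normalizer_OC odd_of_le conjBy_OC)
open CfsgLib.Coprime (conjBy mem_conjBy conjBy_eq_self_iff)

universe u

variable {G : Type u} [Group G] [Finite G]

/-- a subgroup containing the centralisers of a strongly closed elementary subgroup with two classes -/
theorem eq_top_of_closed {A M : Subgroup G} (T : Sylow 2 G) (hA2 : ∀ a ∈ A, a * a = 1)
    (hTM : (T : Subgroup G) ≤ M)
    (hcl : ∀ a ∈ A, a ≠ 1 → ∀ g : G, g * a * g⁻¹ ∈ (T : Subgroup G) → g * a * g⁻¹ ∈ A)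
    (hfus : ∀ a ∈ A, ∀ g : G, g * a * g⁻¹ ∈ A → ∃ n ∈ M, n * a * n⁻¹ = g * a * g⁻¹)
    (hcen : ∀ a ∈ A, a ≠ 1 → centralizer ({a} : Set G) ≤ M)
    {z b : G} (hz : z ∈ A) (hz1 : z ≠ 1) (hb : b ∈ A) (hb1 : b ≠ 1) (hzb : ¬ IsConj z b) : M = ⊤ := by
  have into : ∀ R : Subgroup G, R ≤ M → IsPGroup 2 R → ∃ m ∈ M, ∀ r ∈ R, m * r * m⁻¹ ∈ (T : Subgroup G) := by
    intro R hR h2
    obtain ⟨m, hm⟩ := exists_conj_le_sylow (h2.of_equiv (subgroupOfEquivOfLe hR).symm) (T.subtype hTM)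
    exact ⟨m, m.2, fun r hr => hm ⟨r, hR hr⟩ hr⟩
  have single : ∀ x : G, x * x = 1 → IsPGroup 2 (zpowers x) := by
    rintro x hx ⟨y, k, rfl⟩
    refine ⟨1, Subtype.ext ?_⟩
    show (x ^ k) ^ (2 ^ 1) = 1
    rw [pow_one, pow_two, ← (Commute.refl x).mul_zpow, hx, one_zpow]
  have key : ∀ a ∈ A, a ≠ 1 → ∀ g : G, g * a * g⁻¹ ∈ M → g ∈ M := by
    intro a ha ha1 g hg
    obtain ⟨m, hm, hmr⟩ := into (zpowers (g * a * g⁻¹)) (zpowers_le.2 hg) (single _ (by
      rw [show g * a * g⁻¹ * (g * a * g⁻¹) = g * (a * a) * g⁻¹ by group, hA2 a ha]; group))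
    have h1 := hmr _ (mem_zpowers _)
    rw [show m * (g * a * g⁻¹) * m⁻¹ = (m * g) * a * (m * g)⁻¹ by group] at h1
    obtain ⟨n, hn, hne⟩ := hfus a ha (m * g) (hcl a ha ha1 _ h1)
    have h2 : n⁻¹ * (m * g) ∈ M := hcen a ha ha1 (mem_centralizer_singleton_iff.2 (by
      calc n⁻¹ * (m * g) * a = n⁻¹ * ((m * g) * a * (m * g)⁻¹) * (m * g) := by group
        _ = n⁻¹ * (n * a * n⁻¹) * (m * g) := by rw [hne]
        _ = a * (n⁻¹ * (m * g)) := by group))
    simpa [mul_assoc] using M.mul_mem (M.inv_mem hm) (M.mul_mem hn h2)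
  have key2 : ∀ a ∈ A, a ≠ 1 → ∀ g : G, g * a * g⁻¹ ∈ M → ∀ c : G, Commute c (g * a * g⁻¹) → c ∈ M := by
    intro a ha ha1 g hg c hc
    have hgM := key a ha ha1 g hg
    have h1 : g⁻¹ * c * g ∈ M := hcen a ha ha1 (mem_centralizer_singleton_iff.2 (by
      calc g⁻¹ * c * g * a = g⁻¹ * (c * (g * a * g⁻¹)) * g := by group
        _ = g⁻¹ * ((g * a * g⁻¹) * c) * g := by rw [hc.eq]
        _ = a * (g⁻¹ * c * g) := by group))
    simpa [mul_assoc] using M.mul_mem (M.mul_mem hgM h1) (M.inv_mem hgM)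
  have hzo : orderOf z = 2 := invol_iff.2 ⟨hA2 z hz, hz1⟩
  refine eq_top_iff.2 fun g _ => key b hb hb1 g ?_
  set y := g * b * g⁻¹ with hy
  have hyo : orderOf y = 2 := invol_conj (invol_iff.2 ⟨hA2 b hb, hb1⟩) g
  have heven : Even (orderOf (z * y)) := Nat.not_odd_iff_even.1 fun hodd =>
    hzb ((isConj_of_odd hzo hyo hodd).trans (isConj_iff.2 ⟨g, hy.symm⟩).symm)
  set w := (z * y) ^ (orderOf (z * y) / 2) with hw
  have hwo : orderOf w = 2 := orderOf_pow_half heven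
  have hwz : Commute w z := commute_pow_half (invol_conj_mul hzo hyo) heven
  have hwy : Commute w y := commute_pow_half (invol_conj_mul' hzo hyo) heven
  have hzM : z ∈ M := hcen z hz hz1 (mem_centralizer_singleton_iff.2 rfl)
  have hwM : w ∈ M := hcen z hz hz1 (mem_centralizer_singleton_iff.2 hwz.eq)
  obtain ⟨c, hc, hc1, hk⟩ : ∃ c ∈ A, c ≠ 1 ∧ IsConj c (z * w) := by
    obtain ⟨k, -, ⟨-, hk⟩ | ⟨-, hk⟩⟩ :=
      CfsgLib.Spor.HeldTri.refl_conj hzo hyo ((orderOf (z * y) / 2 : ℕ) : ℤ)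
    · exact ⟨z, hz, hz1, isConj_iff.2 ⟨k, by rw [← hk, hw, zpow_natCast]⟩⟩
    · exact ⟨b, hb, hb1, isConj_iff.2 ⟨k * g, by
        rw [show k * g * b * (k * g)⁻¹ = k * y * k⁻¹ by rw [hy]; group, ← hk, hw, zpow_natCast]⟩⟩
  obtain ⟨h, hh⟩ := isConj_iff.1 hk
  have hzw : orderOf (z * w) = 2 := hh ▸ invol_conj (invol_iff.2 ⟨hA2 c hc, hc1⟩) h
  obtain ⟨m, hm, hmr⟩ := into (closure {z, w})
    ((closure_le M).2 (Set.insert_subset hzM (Set.singleton_subset_iff.2 hwM)))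
    (two_group_of_pair hzo hwo (s := 1) hzw)
  have h1 : m * z * m⁻¹ ∈ A := hcl z hz hz1 m (hmr z (subset_closure (by simp)))
  have h2 : m * h * c * (m * h)⁻¹ ∈ A := hcl c hc hc1 _ (by
    rw [show m * h * c * (m * h)⁻¹ = m * (h * c * h⁻¹) * m⁻¹ by group, hh]
    exact hmr _ (mul_mem (subset_closure (by simp)) (subset_closure (by simp))))
  have h3 : m * w * m⁻¹ ∈ A := by
    have e : m * w * m⁻¹ = (m * z * m⁻¹)⁻¹ * (m * h * c * (m * h)⁻¹) := by
      rw [show m * h * c * (m * h)⁻¹ = m * (h * c * h⁻¹) * m⁻¹ by group, hh]; group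
    rw [e]; exact A.mul_mem (A.inv_mem h1) h2
  refine key2 _ h3 (fun e => invol_ne_one hwo ?_) m⁻¹ ?_ y ?_
  · exact conj_eq_one_iff.1 e
  · rwa [show m⁻¹ * (m * w * m⁻¹) * m⁻¹⁻¹ = w by group]
  · rw [show m⁻¹ * (m * w * m⁻¹) * m⁻¹⁻¹ = w by group]; exact hwy.symm

/-- the centraliser of `a` is its odd core times its meet with the normaliser of `A` -/
def Nice (A : Subgroup G) (a : G) : Prop :=
  ∀ g ∈ centralizer ({a} : Set G), ∃ o ∈ OC (centralizer ({a} : Set G)),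
    ∃ n ∈ normalizer (A : Set G) ⊓ centralizer ({a} : Set G), g = o * n

theorem mem_mul_iff_of_le_normalizer {X O : Subgroup G} (h : X ≤ normalizer (O : Set G)) {g : G} :
    g ∈ X ⊔ O ↔ ∃ x ∈ X, ∃ o ∈ O, x * o = g := by
  rw [← SetLike.mem_coe, coe_mul_of_left_le_normalizer_right X O h, Set.mem_mul]
  rfl

theorem odd_sup {X O : Subgroup G} (h : X ≤ normalizer (O : Set G)) (hX : Odd (Nat.card X))
    (hO : Odd (Nat.card O)) : Odd (Nat.card (X ⊔ O : Subgroup G)) :=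
  (hX.mul hO).of_dvd_nat (CfsgLib.Coprime.card_sup_dvd_of_le_normalizer h)

/-- **odd subgroups invariant under `A` lie in the odd core** -/
theorem Nice.le {A : Subgroup G} {a : G} (hA2 : ∀ c ∈ A, c * c = 1) (hAa : A ≤ centralizer ({a} : Set G))
    (hcA : ∀ n ∈ centralizer (A : Set G), ∃ c ∈ A, ∃ d ∈ OC (centralizer (A : Set G)), n = c * d)
    (haA : a ∈ A) (h : Nice A a) {X : Subgroup G} (hX : X ≤ centralizer ({a} : Set G))
    (hodd : Odd (Nat.card X)) (hinv : ∀ c ∈ A, ∀ x ∈ X, c * x * c⁻¹ ∈ X) :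
    X ≤ OC (centralizer ({a} : Set G)) := by
  set C := centralizer ({a} : Set G) with hC
  set O := OC C with hO
  set D := OC (centralizer (A : Set G)) with hD
  have hDC : D ≤ C := (OC_le _).trans (centralizer_le (Set.singleton_subset_iff.2 haA))
  have hCO : C ≤ normalizer (O : Set G) := le_normalizer_OC_self C
  have hDO : D ≤ O := by
    have h1 : D ⊔ O ≤ O := le_OC (sup_le hDC (OC_le C))
      (odd_sup (hDC.trans hCO) (odd_card_OC _) (odd_card_OC _)) (fun g hg => by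
        obtain ⟨o, ho, n, hn, rfl⟩ := h g hg
        refine mul_mem (le_normalizer (mem_sup_right ho)) ?_
        have e1 := conjBy_eq_self_iff.2 (hCO hn.2)
        have e2 : conjBy n D = D :=
          conjBy_eq_self_iff.2 (le_normalizer_OC _ (CfsgLib.Coprime.normalizer_le_normalizer_centralizer _ hn.1))
        rw [← conjBy_eq_self_iff]
        simp only [conjBy, Subgroup.map_sup] at e1 e2 ⊢
        rw [e1, e2])
    exact le_sup_left.trans h1
  have hXO : X ≤ normalizer (O : Set G) := hX.trans hCO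
  have hsup := odd_sup hXO hodd (odd_card_OC _)
  intro x hx
  obtain ⟨o, ho, n, hn, rfl⟩ := h x (hX hx)
  have hnX : n ∈ X ⊔ O := by
    have h1 := mul_mem ((X ⊔ O).inv_mem (mem_sup_right ho)) (mem_sup_left hx : o * n ∈ X ⊔ O)
    rwa [inv_mul_cancel_left] at h1
  have hnA : n ∈ centralizer (A : Set G) := mem_centralizer_iff.2 fun c hc => by
    have hcn : c * n * c⁻¹ ∈ X ⊔ O := by
      obtain ⟨y, hy, o', ho', rfl⟩ := (mem_mul_iff_of_le_normalizer hXO).1 hnX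
      rw [show c * (y * o') * c⁻¹ = (c * y * c⁻¹) * (c * o' * c⁻¹) by group]
      exact mul_mem (mem_sup_left (hinv c hc y hy))
        (mem_sup_right ((mem_normalizer_iff.1 (hCO (hAa hc)) o').1 ho'))
    have hA' : c * n * c⁻¹ * n⁻¹ ∈ A := by
      rw [show c * n * c⁻¹ * n⁻¹ = c * (n * c⁻¹ * n⁻¹) by group]
      exact A.mul_mem hc ((mem_normalizer_iff.1 hn.1 _).1 (A.inv_mem hc))
    have h1 : c * n * c⁻¹ * n⁻¹ = 1 := CfsgLib.ProdFusion.eq_one_of_sq hsup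
      (mul_mem hcn ((X ⊔ O).inv_mem hnX)) (hA2 _ hA')
    calc c * n = (c * n * c⁻¹ * n⁻¹) * n * c := by group
      _ = n * c := by rw [h1, one_mul]
  obtain ⟨c, hc, d, hd, rfl⟩ := hcA n hnA
  have hcX : c ∈ X ⊔ O := by
    simpa using mul_mem hnX ((X ⊔ O).inv_mem (mem_sup_right (hDO hd)))
  rw [CfsgLib.ProdFusion.eq_one_of_sq hsup hcX (hA2 c hc), one_mul]
  exact mul_mem ho (hDO hd)

/-- **the core theorem**: a strongly closed `A` with factorised centralisers is normal modulo the odd core -/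
theorem factor_of_nice {A : Subgroup G} (T : Sylow 2 G) (hA : Cfsg.IsElementaryAbelian 2 A)
    (hA3 : 2 ^ 3 ≤ Nat.card A) (hTN : (T : Subgroup G) ≤ normalizer (A : Set G))
    (hcl : ∀ a ∈ A, a ≠ 1 → ∀ g : G, g * a * g⁻¹ ∈ (T : Subgroup G) → g * a * g⁻¹ ∈ A)
    (hfus : ∀ a ∈ A, ∀ g : G, g * a * g⁻¹ ∈ A → ∃ n ∈ normalizer (A : Set G), n * a * n⁻¹ = g * a * g⁻¹)
    (hcA : ∀ n ∈ centralizer (A : Set G), ∃ c ∈ A, ∃ d ∈ OC (centralizer (A : Set G)), n = c * d)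
    (hnice : ∀ a ∈ A, a ≠ 1 → Nice A a)
    {z b : G} (hz : z ∈ A) (hz1 : z ≠ 1) (hb : b ∈ A) (hb1 : b ≠ 1) (hzb : ¬ IsConj z b) :
    ∀ g : G, ∃ o ∈ Cfsg.pPrimeCore 2 G, ∃ n ∈ normalizer (A : Set G), g = o * n := by
  haveI : Fact (Nat.Prime 2) := ⟨Nat.prime_two⟩
  have hA2 : ∀ a ∈ A, a * a = 1 := fun a ha => by rw [← pow_two]; exact hA.2 a ha
  have hcomm : ∀ a ∈ A, A ≤ centralizer ({a} : Set G) := fun a ha c hc =>
    mem_centralizer_singleton_iff.2 (CfsgLib.EABasic.comm_of_isElementaryAbelian hA hc ha)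
  set θ : G → Subgroup G := fun a => OC (centralizer ({a} : Set G)) with hθ
  have h2θ : ∀ a : G, ¬ 2 ∣ Nat.card (θ a) := fun a h =>
    Nat.not_even_iff_odd.2 (odd_card_OC (centralizer ({a} : Set G))) (even_iff_two_dvd.2 h)
  have hinvθ : ∀ a ∈ A, ∀ c ∈ A, ∀ x ∈ θ a, c * x * c⁻¹ ∈ θ a := fun a ha c hc x hx =>
    (mem_normalizer_iff.1 (le_normalizer_OC_self _ (hcomm a ha hc)) x).1 hx
  have hfun : Cfsg.IsSolvableSignalizerFunctor 2 A θ := by
    refine ⟨⟨fun a _ _ => OC_le _, fun a _ _ => h2θ a, fun a ha _ => hinvθ a ha, fun a ha _ b hb hb1 => ?_⟩,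
      fun a _ _ => Cfsg.Agent.S0205.result (odd_card_OC (centralizer ({a} : Set G)))⟩
    refine (hnice b hb hb1).le hA2 (hcomm b hb) hcA hb inf_le_right
      (odd_of_le inf_le_left (odd_card_OC _)) fun c hc x hx => ⟨hinvθ a ha c hc x hx.1, ?_⟩
    exact (centralizer ({b} : Set G)).mul_mem ((centralizer ({b} : Set G)).mul_mem (hcomm b hb hc) hx.2)
      ((centralizer ({b} : Set G)).inv_mem (hcomm b hb hc))
  obtain ⟨X, hX, hXθ⟩ := CfsgLib.SolvSignalizer.exists_complete hA hA3 hfun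
  set W : Subgroup G := ⨆ a : {a : G // a ∈ A ∧ a ≠ 1}, θ a with hW
  have hWX : W ≤ X := iSup_le fun a => hXθ a a.2.1 a.2.2
  have hθW : ∀ a ∈ A, a ≠ 1 → θ a ≤ W := fun a ha ha1 =>
    le_iSup (fun a : {a : G // a ∈ A ∧ a ≠ 1} => θ a) ⟨a, ha, ha1⟩
  have hconjθ : ∀ n a : G, conjBy n (θ a) = θ (n * a * n⁻¹) := fun n a => by
    show conjBy n (OC _) = OC _
    rw [conjBy_OC]
    congr 1
    ext g
    rw [mem_conjBy, mem_centralizer_singleton_iff, mem_centralizer_singleton_iff,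
      show g * (n * a * n⁻¹) = n * (n⁻¹ * g * n * a) * n⁻¹ by group,
      show n * a * n⁻¹ * g = n * (a * (n⁻¹ * g * n)) * n⁻¹ by group]
    exact ⟨fun e => by rw [e], fun e => mul_left_cancel (mul_right_cancel e)⟩
  have hNW : normalizer (A : Set G) ≤ normalizer (W : Set G) := fun n hn => by
    refine CfsgLib.ProdFusion.mem_of_forall_conj_mem fun x hx => ?_
    have hle : conjBy n W ≤ W := by
      rw [hW, conjBy, Subgroup.map_iSup]
      refine iSup_le fun a => ?_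
      show conjBy n (θ a) ≤ W
      rw [hconjθ]
      exact hθW _ ((mem_normalizer_iff.1 hn a).1 a.2.1) fun e => a.2.2 (conj_eq_one_iff.1 e)
    exact hle ⟨x, hx, rfl⟩
  have top : ∀ K : Subgroup G, normalizer (A : Set G) ≤ K → (∀ a ∈ A, a ≠ 1 → θ a ≤ K) → K = ⊤ := by
    intro K hNK hθK
    refine eq_top_of_closed T hA2 (hTN.trans hNK) hcl
      (fun a ha g hg => (hfus a ha g hg).imp fun n hn => ⟨hNK hn.1, hn.2⟩) (fun a ha ha1 g hg => ?_)
      hz hz1 hb hb1 hzb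
    obtain ⟨o, ho, n, hn, rfl⟩ := hnice a ha ha1 g hg
    exact mul_mem (hθK a ha ha1 ho) (hNK hn.1)
  have hWn : normalizer (W : Set G) = ⊤ :=
    top _ hNW fun a ha ha1 => (hθW a ha ha1).trans le_normalizer
  haveI : W.Normal := normalizer_eq_top_iff.1 hWn
  have hWO : W ≤ Cfsg.pPrimeCore 2 G := CfsgLib.Coprime.le_pPrimeCore
    ((CfsgLib.ProdFusion.odd_iff_coprime).1 (odd_of_le hWX (by
      rw [Nat.odd_iff]; have := hX.2.1; omega)))
  have htop : Cfsg.pPrimeCore 2 G ⊔ normalizer (A : Set G) = ⊤ :=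
    top _ le_sup_right fun a ha ha1 => ((hθW a ha ha1).trans hWO).trans le_sup_left
  intro g
  have hg : g ∈ Cfsg.pPrimeCore 2 G ⊔ normalizer (A : Set G) := htop ▸ mem_top g
  haveI : (Cfsg.pPrimeCore 2 G).Normal := by
    haveI := CfsgLib.Coprime.pPrimeCore_characteristic (G := G) 2
    infer_instance
  rw [← SetLike.mem_coe, normal_mul] at hg
  obtain ⟨o, ho, n, hn, rfl⟩ := hg
  exact ⟨o, ho, n, hn, rfl⟩

end CfsgLib.Invol.EightTypeThree
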