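import Mathlib.GroupTheory.Sylow
import Mathlib.GroupTheory.SpecificGroups.Alternating
import Mathlib.Data.List.Dedup

/-!
# A list of the elements of a Sylow two-subgroup of the alternating group of degree eight
-/

set_option autoImplicit false
set_option synthInstance.maxSize 4000
set_option synthInstance.maxHeartbeats 80000

namespace CfsgLib.Invol.EightTypeThree

open Equiv

attribute [local instance 5000] List.decidableBAll List.decidableBEx

abbrev Q8 := Equiv.Perm (Fin 8)

/-- the two dihedral groups of order eight -/
def dihPairs : List Q8 :=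
  (([1, swap 0 1, swap 2 3, swap 0 1 * swap 2 3] : List Q8).flatMap fun a =>
    [1, swap 0 2 * swap 1 3].map fun b => a * b).flatMap fun x =>
  (([1, swap 4 5, swap 6 7, swap 4 5 * swap 6 7] : List Q8).flatMap fun a =>
    [1, swap 4 6 * swap 5 7].map fun b => a * b).map fun y => x * y

/-- a Sylow two-subgroup as a list -/
def sylList : List Q8 :=
  (dihPairs.filter fun s => decide (Perm.sign s = 1)).flatMap fun x =>
    [x, x * (swap 0 4 * swap 1 5 * swap 2 6 * swap 3 7)]

/-- a permutation as a number -/
def code (p : Q8) : ℕ := (List.finRange 8).foldl (fun acc i => 8 * acc + (p i).val) 0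
/-- the codes of the list -/
def sylCodes : List ℕ := [
  342391, 9924691, 343525, 14569555, 342846, 11788371, 343980, 16433235,
  4987255, 9925825, 4988389, 14570689, 4987710, 11789505, 4988844, 16434369,
  2177847, 11760147, 2178540, 14598675, 2177406, 9953811, 2178981, 16405011,
  5016375, 11760840, 5017068, 14599368, 5015934, 9954504, 5017509, 16405704,
  371511, 11759706, 372204, 14598234, 371070, 9953370, 372645, 16404570,
  6822711, 11761281, 6823404, 14599809, 6822270, 9954945, 6823845, 16406145,
  2206071, 9925146, 2207205, 14570010, 2206526, 11788826, 2207660, 16433690,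
  6850935, 9926280, 6852069, 14571144, 6851390, 11789960, 6852524, 16434824]

/-- the images packed in a number, read back -/
def dig (c i : ℕ) : ℕ := c / 8 ^ (7 - i) % 8

/-- composition of packed images -/
def compCode (c d : ℕ) : ℕ := (List.range 8).foldl (fun acc i => 8 * acc + dig c (dig d i)) 0

theorem code_eq (r : Q8) : code r = ((((((( (r 0).val * 8 + (r 1).val) * 8 + (r 2).val) * 8 + (r 3).val) * 8 +
    (r 4).val) * 8 + (r 5).val) * 8 + (r 6).val) * 8 + (r 7).val) := by
  simp [code, List.finRange]
  ring

theorem dig_code (p : Q8) (i : Fin 8) : dig (code p) i.val = (p i).val := by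
  rw [code_eq]
  have := (p 0).isLt; have := (p 1).isLt; have := (p 2).isLt; have := (p 3).isLt
  have := (p 4).isLt; have := (p 5).isLt; have := (p 6).isLt; have := (p 7).isLt
  fin_cases i <;> simp [dig] <;> omega

theorem code_injective : Function.Injective code := fun p q h =>
  Equiv.ext fun i => Fin.ext (by rw [← dig_code, ← dig_code, h])

theorem code_mul (p q : Q8) : code (p * q) = compCode (code p) (code q) := by
  have e : ∀ i : Fin 8, dig (code p) (dig (code q) i.val) = (p (q i)).val := fun i => by
    rw [dig_code q, dig_code p]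
  have e0 : List.range 8 = [0, 1, 2, 3, 4, 5, 6, 7] := rfl
  rw [code_eq (p * q), compCode, e0]
  simp only [List.foldl_cons, List.foldl_nil]
  rw [show (0 : ℕ) = (0 : Fin 8).val from rfl]
  have e1 := e 0; have e2 := e 1; have e3 := e 2; have e4 := e 3
  have e5 := e 4; have e6 := e 5; have e7 := e 6; have e8 := e 7
  simp at e1 e2 e3 e4 e5 e6 e7 e8 ⊢
  rw [e1, e2, e3, e4, e5, e6, e7, e8]
  ring

theorem sylList_code : sylList.map code = sylCodes := by decide +kernel

theorem sylList_checks : sylCodes.Nodup ∧ code 1 ∈ sylCodes ∧
    (sylCodes.all fun a => sylCodes.all fun b => sylCodes.contains (compCode a b)) = true ∧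
    (sylList.all fun a => decide (Perm.sign a = 1)) = true ∧
    (sylCodes.all fun a => (a == code 1) || (a == code (swap 0 1 * swap 2 3 * swap 4 5 * swap 6 7)) ||
      !(sylCodes.all fun b => compCode a b == compCode b a)) = true := by decide +kernel

theorem sylList_facts : (1 : Q8) ∈ sylList ∧ (∀ a ∈ sylList, ∀ b ∈ sylList, a * b ∈ sylList) ∧
    sylList.toFinset.card = 64 ∧ (∀ a ∈ sylList, Perm.sign a = 1) ∧
    (∀ a ∈ sylList, (∀ b ∈ sylList, a * b = b * a) →
      a = 1 ∨ a = swap 0 1 * swap 2 3 * swap 4 5 * swap 6 7) := by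
  obtain ⟨hnd, h1, hm, hs, hc⟩ := sylList_checks
  have hmem : ∀ x : Q8, code x ∈ sylCodes → x ∈ sylList := fun x hx => by
    rw [← sylList_code, List.mem_map] at hx
    obtain ⟨y, hy, e⟩ := hx
    exact code_injective e ▸ hy
  simp only [List.all_eq_true, List.contains_iff_mem, decide_eq_true_eq] at hm hs
  have hcm : ∀ x ∈ sylList, code x ∈ sylCodes := fun x hx => sylList_code ▸ List.mem_map_of_mem hx
  refine ⟨hmem _ h1, fun a ha b hb => hmem _ (code_mul a b ▸ hm _ (hcm a ha) _ (hcm b hb)), ?_, hs, fun a ha hb => ?_⟩
  · rw [List.toFinset_card_of_nodup ((sylList_code ▸ hnd).of_map code), ← List.length_map (f := code), sylList_code]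
    rfl
  · have := List.all_eq_true.1 hc _ (hcm a ha)
    simp only [Bool.or_eq_true, beq_iff_eq, Bool.not_eq_true'] at this
    rcases this with (e | e) | e
    · exact Or.inl (code_injective e)
    · exact Or.inr (code_injective e)
    · rw [List.all_eq_false] at e
      obtain ⟨c, hc', hne⟩ := e
      rw [← sylList_code, List.mem_map] at hc'
      obtain ⟨b, hb', rfl⟩ := hc'
      exact absurd (by rw [← code_mul, ← code_mul, hb b hb']; exact beq_self_eq_true _) hne

end CfsgLib.Invol.EightTypeThree
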