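import Cfsg.Agent.Lib.Invol.EightTypeThree.Classes
import Cfsg.Agent.Lib.Invol.EightTypeThree.Local
import Cfsg.Agent.Lib.Invol.TransferPower

/-!
# The centraliser of a central involution has a subgroup of index two
-/

set_option autoImplicit false
set_option linter.unusedSectionVars false
set_option linter.style.haveILetI false

namespace CfsgLib.Invol.EightTypeThree

open Subgroup CfsgLib.Invol Equiv

universe u

/-- parity of the first four coordinates -/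
abbrev par (f : M5) : ZMod 2 := f 0 + f 1 + f 2 + f 3

/-- a pair -/
def e₀₂ : M5 := Pi.single 0 1 + Pi.single 2 1

/-- a single point outside the core -/
def e₀ : M5 := Pi.single 0 1

theorem four_table : s₁ * s₂ = s₃ ∧ s₂ * s₁ = s₃ ∧ s₁ * s₃ = s₂ ∧ s₃ * s₁ = s₂ ∧ s₂ * s₃ = s₁ ∧ s₃ * s₂ = s₁ ∧
    s₂ ≠ 1 ∧ s₃ ≠ 1 ∧ s₁ ≠ s₂ ∧ s₁ ≠ s₃ ∧ s₂ ≠ s₃ ∧ s₂ ∈ fourList ∧ s₃ ∈ fourList := by decide +kernel

theorem z_fix : ∀ σ ∈ fourList, Eqv (act σ e₄) e₄ := by decide +kernel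

theorem center_facts : ∀ f : M5, Eqv (act s₁ f) f → Eqv (act s₂ f) f → Eqv f 0 ∨ Eqv f e₄ := by decide +kernel

theorem pair_facts : Eqv (act s₂ e₀₂) e₀₂ ∧ Eqv (act s₃ e₀₂ + e₀₂) e₄ ∧ par e₀ = 1 ∧ par e₄ = 0 ∧ par e₀₁ = 0 := by
  decide +kernel

theorem par_act : ∀ σ ∈ fourList, ∀ f : M5, par (act σ f) = par f := by decide +kernel

theorem par_eqv : ∀ f g : M5, Eqv f g → par f = par g := by decide +kernel

theorem par_add : ∀ f g : M5, par (f + g) = par f + par g := by decide +kernel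

theorem crit_inside : ∀ f : M5,
    par f = 0 ↔ (Eqv f 0 ∨ Eqv f e₄ ∨ (¬ IsSingle f ∧ ¬ IsSingle (f + e₄))) := by decide +kernel

theorem crit_outside : ∀ σ ∈ fourList, σ ≠ 1 → ∀ f : M5,
    par f = 0 ↔ (Eqv (act σ f + f) 0 ∨ Eqv (act σ f + f) e₄) := by decide +kernel

theorem add_e₄ : ∀ f : M5, ¬ Eqv f 0 → ¬ Eqv f e₄ → f ≠ 0 ∧ f ≠ 1 ∧ f + e₄ ≠ 0 ∧ f + e₄ ≠ 1 := by decide +kernel

theorem mult_two : (∀ a : Multiplicative (ZMod 2), a ^ 2 = 1 ∧ (a = 1 ∨ a * Multiplicative.ofAdd 1 = 1)) ∧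
    ∀ a : Multiplicative (ZMod 2), a * Multiplicative.ofAdd 1 = 1 → Multiplicative.ofAdd 1 = a := by decide

variable {G : Type u} [Group G] [Finite G]

namespace Frame

variable (F : Frame G)

theorem z_central {t : G} (ht : t ∈ (F.T : Subgroup G)) : t * F.z = F.z * t := by
  refine mul_inv_eq_iff_eq_mul.1 ?_
  rw [F.conj t (F.le_norm ht), F.v_eq_iff]
  exact z_fix _ (F.perm_four t ht)

theorem T_le_cent : (F.T : Subgroup G) ≤ centralizer ({F.z} : Set G) := fun _ ht =>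
  mem_centralizer_singleton_iff.2 (F.z_central ht)

theorem central_eq {c : G} (hc : c ∈ (F.T : Subgroup G)) (hcc : ∀ t ∈ (F.T : Subgroup G), c * t = t * c) :
    c = 1 ∨ c = F.z := by
  have hp : F.perm c = 1 := (F.perm_eq_one (F.le_norm hc)).2
    (mem_centralizer_iff.2 fun a ha => (hcc a (F.le_syl ha)).symm)
  obtain ⟨f, rfl⟩ := F.v_surj c (F.mem_of_perm c hc hp)
  have hfix : ∀ σ ∈ fourList, Eqv (act σ f) f := by
    intro σ hσ
    obtain ⟨t, ht, rfl⟩ := F.four_lift σ hσ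
    rw [← F.v_eq_iff, ← F.conj t (F.le_norm ht), ← hcc t ht, mul_inv_cancel_right]
  rcases center_facts f (hfix _ vec_facts.2.2.2.2.2.2.1) (hfix _ four_table.2.2.2.2.2.2.2.2.2.2.2.1) with h | h
  · left; rw [F.v_eq_iff.2 h, F.v_zero]
  · right; exact F.v_eq_iff.2 h

theorem exists_y : ∃ y ∈ (F.T : Subgroup G), F.perm y = s₂ ∧ y * y = 1 ∧ F.x * y = y * F.x := by
  obtain ⟨-, -, -, -, -, -, hs2, -, -, -, -, hm2, hm3⟩ := four_table
  obtain ⟨hxT, hxp, hx2⟩ := F.x_spec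
  obtain ⟨y, hyT, hyp, hy2⟩ := F.exists_invol_over hm2 hs2
  have hxN := F.le_norm hxT
  have hyN := F.le_norm hyT
  have hxi : F.x⁻¹ = F.x := inv_eq_of_mul_eq_one_right hx2
  have hyi : y⁻¹ = y := inv_eq_of_mul_eq_one_right hy2
  have hwp : F.perm (F.x * y) = s₃ := by rw [F.perm_mul _ hxN _ hyN, hxp, hyp, four_table.1]
  have hsq : F.x * y * (F.x * y) ∈ F.A := F.mem_of_perm _
    ((F.T : Subgroup G).mul_mem ((F.T : Subgroup G).mul_mem hxT hyT) ((F.T : Subgroup G).mul_mem hxT hyT))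
    (by rw [F.perm_mul _ (F.N.mul_mem hxN hyN) _ (F.N.mul_mem hxN hyN), hwp]; exact (four_facts _ hm3).2)
  obtain ⟨f, hf⟩ := F.v_surj _ hsq
  have hinv : y * F.x * (y * F.x) = F.v f := by
    have e : (F.v f)⁻¹ = y * F.x * (y * F.x) := by
      rw [hf, mul_inv_rev, mul_inv_rev, hxi, hyi]
    rw [← e, F.inv (F.v_mem f)]
  have h1 : Eqv (act s₁ f) f := by
    rw [← F.v_eq_iff, ← hxp, ← F.conj F.x hxN, hxi]
    calc F.x * F.v f * F.x = (F.x * F.x) * (y * F.x * (y * F.x)) := by rw [hf]; group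
      _ = F.v f := by rw [hx2, one_mul, hinv]
  have h2 : Eqv (act s₂ f) f := by
    rw [← F.v_eq_iff, ← hyp, ← F.conj y hyN, hyi]
    calc y * F.v f * y = (y * F.x * (y * F.x)) * (y * y) := by rw [hf]; group
      _ = F.v f := by rw [hy2, mul_one, hinv]
  rcases center_facts f h1 h2 with h | h
  · refine ⟨y, hyT, hyp, hy2, ?_⟩
    have h' : F.x * y * (F.x * y) = 1 := by rw [← hf, F.v_eq_iff.2 h, F.v_zero]
    calc F.x * y = (F.x * y)⁻¹ := (inv_eq_of_mul_eq_one_right h').symm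
      _ = y * F.x := by rw [mul_inv_rev, hxi, hyi]
  · set y' := y * F.v e₀₂ with hy'
    have hy'T : y' ∈ (F.T : Subgroup G) := (F.T : Subgroup G).mul_mem hyT (F.le_syl (F.v_mem _))
    have hfix : y⁻¹ * F.v e₀₂ * y = F.v e₀₂ := by
      have e := F.conj y hyN e₀₂
      rw [hyp, F.v_eq_iff.2 pair_facts.1] at e
      rw [hyi]; rwa [hyi] at e
    have hy'2 : y' * y' = 1 := by
      calc y' * y' = (y * y) * (y⁻¹ * F.v e₀₂ * y) * F.v e₀₂ := by rw [hy']; group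
        _ = 1 := by rw [hy2, hfix, one_mul, F.sq (F.v_mem _)]
    refine ⟨y', hy'T, by rw [hy', F.perm_mul _ hyN _ (F.A_le_N (F.v_mem _)), hyp, F.perm_of_mem (F.v_mem _), mul_one],
      hy'2, ?_⟩
    have e := F.conj (F.x * y)⁻¹ (F.N.inv_mem (F.N.mul_mem hxN hyN)) e₀₂
    rw [F.perm_inv (F.N.mul_mem hxN hyN), hwp, (four_facts _ hm3).1, inv_inv] at e
    have hfz : F.v f = F.z := F.v_eq_iff.2 h
    have h' : F.x * y' * (F.x * y') = 1 := by
      calc F.x * y' * (F.x * y')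
          = (F.x * y * (F.x * y)) * ((F.x * y)⁻¹ * F.v e₀₂ * (F.x * y)) * F.v e₀₂ := by rw [hy']; group
        _ = F.z * F.v (act s₃ e₀₂ + e₀₂) := by rw [← hf, hfz, e, mul_assoc, ← F.v_mul]
        _ = 1 := by rw [F.v_eq_iff.2 pair_facts.2.1, F.sq (F.v_mem _)]
    calc F.x * y' = (F.x * y')⁻¹ := (inv_eq_of_mul_eq_one_right h').symm
      _ = y' * F.x := by rw [mul_inv_rev, hxi, inv_eq_of_mul_eq_one_right hy'2]

noncomputable def y : G := F.exists_y.choose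

theorem y_spec : F.y ∈ (F.T : Subgroup G) ∧ F.perm F.y = s₂ ∧ F.y * F.y = 1 ∧ F.x * F.y = F.y * F.x :=
  F.exists_y.choose_spec

/-- the complement -/
noncomputable def kf (σ : P5) : G :=
  if σ = s₁ then F.x else if σ = s₂ then F.y else if σ = s₃ then F.x * F.y else 1

theorem kf_vals : F.kf 1 = 1 ∧ F.kf s₁ = F.x ∧ F.kf s₂ = F.y ∧ F.kf s₃ = F.x * F.y := by
  obtain ⟨-, -, -, -, -, -, hs2, hs3, h12, h13, h23, -, -⟩ := four_table
  have hs1 := vec_facts.2.2.2.2.2.2.2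
  refine ⟨?_, ?_, ?_, ?_⟩ <;> simp [kf, hs1.symm, hs2.symm, hs3.symm, h12.symm, h13.symm, h23.symm]

theorem kf_mul {σ τ : P5} (hσ : σ ∈ fourList) (hτ : τ ∈ fourList) : F.kf σ * F.kf τ = F.kf (σ * τ) := by
  obtain ⟨-, -, hy2, hxy⟩ := F.y_spec
  have hx2 := F.x_spec.2.2
  obtain ⟨k0, k1, k2, k3⟩ := F.kf_vals
  obtain ⟨t12, t21, t13, t31, t23, t32, -, -, -, -, -, hm2, hm3⟩ := four_table
  have q1 := (four_facts _ vec_facts.2.2.2.2.2.2.1).2
  have q2 := (four_facts _ hm2).2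
  have q3 := (four_facts _ hm3).2
  simp only [fourList, List.mem_cons, List.not_mem_nil, or_false] at hσ hτ
  have a1 : F.x * (F.x * F.y) = F.y := by rw [← mul_assoc, hx2, one_mul]
  have a2 : F.x * F.y * F.x = F.y := by rw [hxy, mul_assoc, hx2, mul_one]
  have a3 : F.y * (F.x * F.y) = F.x := by rw [hxy, ← mul_assoc, hy2, one_mul]
  have a4 : F.x * F.y * F.y = F.x := by rw [mul_assoc, hy2, mul_one]
  have a5 : F.x * F.y * (F.x * F.y) = 1 := by rw [← mul_assoc, a2, hy2]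
  rcases hσ with rfl | rfl | rfl | rfl <;> rcases hτ with rfl | rfl | rfl | rfl <;>
    simp only [one_mul, mul_one, k0, k1, k2, k3, t12, t21, t13, t31, t23, t32, q1, q2, q3, hx2, hy2, a1, a2, a3, a4, a5,
      ← hxy]

theorem kf_spec {σ : P5} (hσ : σ ∈ fourList) :
    F.kf σ ∈ (F.T : Subgroup G) ∧ F.perm (F.kf σ) = σ ∧ F.kf σ * F.kf σ = 1 := by
  refine ⟨?_, ?_, by rw [F.kf_mul hσ hσ, (four_facts _ hσ).2]; exact F.kf_vals.1⟩
  all_goals
    obtain ⟨k0, k1, k2, k3⟩ := F.kf_vals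
    obtain ⟨hyT, hyp, -, -⟩ := F.y_spec
    obtain ⟨hxT, hxp, -⟩ := F.x_spec
    simp only [fourList, List.mem_cons, List.not_mem_nil, or_false] at hσ
    rcases hσ with rfl | rfl | rfl | rfl
  · rw [k0]; exact (F.T : Subgroup G).one_mem
  · rw [k1]; exact hxT
  · rw [k2]; exact hyT
  · rw [k3]; exact (F.T : Subgroup G).mul_mem hxT hyT
  · rw [k0, F.perm_one]
  · rw [k1, hxp]
  · rw [k2, hyp]
  · rw [k3, F.perm_mul _ (F.le_norm hxT) _ (F.le_norm hyT), hxp, hyp, four_table.1]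

theorem kf_conj {σ : P5} (hσ : σ ∈ fourList) (f : M5) : F.kf σ * F.v f * F.kf σ = F.v (act σ f) := by
  obtain ⟨hT, hp, h2⟩ := F.kf_spec hσ
  have e := F.conj _ (F.le_norm hT) f
  rwa [inv_eq_of_mul_eq_one_right h2, hp] at e

theorem coord {t : G} (ht : t ∈ (F.T : Subgroup G)) : ∃ f : M5, t = F.kf (F.perm t) * F.v f := by
  obtain ⟨hT, hp, h2⟩ := F.kf_spec (F.perm_four t ht)
  obtain ⟨f, hf⟩ := F.v_surj (F.kf (F.perm t) * t) (F.mem_of_perm _ ((F.T : Subgroup G).mul_mem hT ht) (by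
    rw [F.perm_mul _ (F.le_norm hT) _ (F.le_norm ht), hp]; exact (four_facts _ (F.perm_four t ht)).2))
  exact ⟨f, by rw [hf, ← mul_assoc, h2, one_mul]⟩

open Classical in
/-- the parity of an element of `T` -/
noncomputable def chi (t : G) : ZMod 2 :=
  if h : ∃ f : M5, t = F.kf (F.perm t) * F.v f then par h.choose else 0

theorem chi_eq {t : G} {f : M5} (hf : t = F.kf (F.perm t) * F.v f) : F.chi t = par f := by
  classical
  have h : ∃ f : M5, t = F.kf (F.perm t) * F.v f := ⟨f, hf⟩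
  unfold chi
  rw [dif_pos h]
  exact par_eqv _ _ (F.v_eq_iff.1 (mul_left_cancel (h.choose_spec.symm.trans hf)))

theorem chi_v (f : M5) : F.chi (F.v f) = par f :=
  F.chi_eq (by rw [F.perm_of_mem (F.v_mem f), F.kf_vals.1, one_mul])

theorem chi_kf {σ : P5} (hσ : σ ∈ fourList) : F.chi (F.kf σ) = 0 :=
  (F.chi_eq (f := 0) (by rw [(F.kf_spec hσ).2.1, F.v_zero, mul_one])).trans (by decide)

theorem chi_one : F.chi 1 = 0 := by
  rw [← F.v_zero, F.chi_v]; decide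

theorem chi_mul {s t : G} (hs : s ∈ (F.T : Subgroup G)) (ht : t ∈ (F.T : Subgroup G)) :
    F.chi (s * t) = F.chi s + F.chi t := by
  obtain ⟨f, hf⟩ := F.coord hs
  obtain ⟨g, hg⟩ := F.coord ht
  have hσ := F.perm_four s hs
  have hτ := F.perm_four t ht
  have h2 := (F.kf_spec hτ).2.2
  have e : s * t = F.kf (F.perm (s * t)) * F.v (act (F.perm t) f + g) := by
    rw [F.perm_mul _ (F.le_norm hs) _ (F.le_norm ht), ← F.kf_mul hσ hτ, F.v_mul, ← F.kf_conj hτ]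
    calc s * t = (F.kf (F.perm s) * F.v f) * (F.kf (F.perm t) * F.v g) := by rw [← hf, ← hg]
      _ = F.kf (F.perm s) * (F.kf (F.perm t) * F.kf (F.perm t)) * F.v f * (F.kf (F.perm t) * F.v g) := by
        rw [h2, mul_one]
      _ = F.kf (F.perm s) * F.kf (F.perm t) * (F.kf (F.perm t) * F.v f * F.kf (F.perm t) * F.v g) := by group
  rw [F.chi_eq e, F.chi_eq hf, F.chi_eq hg, par_add, par_act _ hτ]

/-- the invariant description of parity zero -/
def Crit (t : G) : Prop :=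
  (t * t = 1 ∨ t * t = F.z) ∧
    (t * t = 1 → ¬ IsConj F.x t → t = 1 ∨ t = F.z ∨ (¬ IsConj F.z t ∧ ¬ IsConj F.z (t * F.z)))

theorem not_isConj_x {a : G} (ha : a ∈ F.A) : ¬ IsConj F.x a := fun h => by
  obtain ⟨g, hg⟩ := isConj_iff.1 h.symm
  have h1 : g * a * g⁻¹ ∈ F.A := F.closed ha
    (fun e => invol_ne_one F.x_ord (by rw [← hg, e]; group)) g (hg ▸ F.x_spec.1)
  have h2 := F.perm_of_mem h1
  rw [hg, F.x_spec.2.1] at h2
  exact vec_facts.2.2.2.2.2.2.2 h2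

theorem chi_iff {t : G} (ht : t ∈ (F.T : Subgroup G)) : F.chi t = 0 ↔ F.Crit t := by
  obtain ⟨f, hf⟩ := F.coord ht
  rw [F.chi_eq hf]
  by_cases hp : F.perm t = 1
  · rw [hp, F.kf_vals.1, one_mul] at hf
    subst hf
    rw [crit_inside]
    refine ⟨fun h => ⟨Or.inl (F.sq (F.v_mem f)), fun _ _ => ?_⟩, fun h => ?_⟩
    · rcases h with h | h | ⟨h1, h2⟩
      · exact Or.inl (by rw [F.v_eq_iff.2 h, F.v_zero])
      · exact Or.inr (Or.inl (F.v_eq_iff.2 h))
      · by_cases h0 : Eqv f 0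
        · exact Or.inl (by rw [F.v_eq_iff.2 h0, F.v_zero])
        by_cases h4 : Eqv f e₄
        · exact Or.inr (Or.inl (F.v_eq_iff.2 h4))
        obtain ⟨n0, n1, n2, n3⟩ := add_e₄ f h0 h4
        refine Or.inr (Or.inr ⟨(F.single_iff n0 n1).not.2 h1, ?_⟩)
        rw [← F.v_mul]
        exact (F.single_iff n2 n3).not.2 h2
    · by_cases h0 : Eqv f 0
      · exact Or.inl h0
      by_cases h4 : Eqv f e₄
      · exact Or.inr (Or.inl h4)
      obtain ⟨n0, n1, n2, n3⟩ := add_e₄ f h0 h4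
      rcases h.2 (F.sq (F.v_mem f)) (F.not_isConj_x (F.v_mem f)) with e | e | ⟨h1, h2⟩
      · exact absurd (F.v_eq_iff.1 (e.trans F.v_zero.symm)) h0
      · exact absurd (F.v_eq_iff.1 e) h4
      · rw [← F.v_mul] at h2
        exact Or.inr (Or.inr ⟨(F.single_iff n0 n1).not.1 h1, (F.single_iff n2 n3).not.1 h2⟩)
  · have hσ := F.perm_four t ht
    have e : t * t = F.v (act (F.perm t) f + f) := by
      rw [F.v_mul, ← F.kf_conj hσ]
      conv_lhs => rw [hf]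
      group
    rw [crit_outside _ hσ hp]
    refine ⟨fun h => ⟨?_, fun h2 hx => absurd (F.outside_conj (F.le_norm ht) h2 hp) hx⟩, fun h => ?_⟩
    · rcases h with h | h
      · exact Or.inl (by rw [e, F.v_eq_iff.2 h, F.v_zero])
      · exact Or.inr (by rw [e]; exact F.v_eq_iff.2 h)
    · rcases h.1 with h1 | h1 <;> rw [e] at h1
      · exact Or.inl (F.v_eq_iff.1 (h1.trans F.v_zero.symm))
      · exact Or.inr (F.v_eq_iff.1 h1)

theorem Crit.conj {t g : G} (hg : g ∈ centralizer ({F.z} : Set G)) (h : F.Crit t) : F.Crit (g * t * g⁻¹) := by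
  have hgz : g * F.z * g⁻¹ = F.z := by rw [mem_centralizer_singleton_iff.1 hg, mul_inv_cancel_right]
  have hsq : g * t * g⁻¹ * (g * t * g⁻¹) = g * (t * t) * g⁻¹ := by group
  have hmul : g * t * g⁻¹ * F.z = g * (t * F.z) * g⁻¹ := by
    nth_rewrite 1 [← hgz]; group
  have hiff : ∀ a b : G, IsConj a (g * b * g⁻¹) ↔ IsConj a b := fun a b =>
    ⟨fun h => h.trans (isConj_iff.2 ⟨g, rfl⟩).symm, fun h => h.trans (isConj_iff.2 ⟨g, rfl⟩)⟩
  refine ⟨?_, fun h1 h2 => ?_⟩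
  · rcases h.1 with e | e
    · exact Or.inl (by rw [hsq, e]; group)
    · exact Or.inr (by rw [hsq, e, hgz])
  · rcases h.2 (conj_eq_one_iff.1 (hsq ▸ h1)) ((hiff _ _).not.1 h2) with e | e | ⟨e1, e2⟩
    · exact Or.inl (by rw [e]; group)
    · exact Or.inr (Or.inl (by rw [e, hgz]))
    · exact Or.inr (Or.inr ⟨(hiff _ _).not.2 e1, by rw [hmul]; exact (hiff _ _).not.2 e2⟩)

/-- parity is invariant under fusion in the centraliser -/
theorem chi_conj {t g : G} (hg : g ∈ centralizer ({F.z} : Set G)) (ht : t ∈ (F.T : Subgroup G))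
    (hgt : g * t * g⁻¹ ∈ (F.T : Subgroup G)) : F.chi (g * t * g⁻¹) = F.chi t := by
  have hiff : F.chi (g * t * g⁻¹) = 0 ↔ F.chi t = 0 := by
    rw [F.chi_iff hgt, F.chi_iff ht]
    refine ⟨fun h => ?_, Frame.Crit.conj F hg⟩
    have h' := Frame.Crit.conj F ((centralizer ({F.z} : Set G)).inv_mem hg) h
    rwa [show g⁻¹ * (g * t * g⁻¹) * g⁻¹⁻¹ = t by group] at h'
  have h2 : ∀ a b : ZMod 2, (a = 0 ↔ b = 0) → a = b := by decide
  exact h2 _ _ hiff

/-- the kernel of the parity -/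
noncomputable def T1 : Subgroup G where
  carrier := {t | t ∈ (F.T : Subgroup G) ∧ F.chi t = 0}
  one_mem' := ⟨(F.T : Subgroup G).one_mem, F.chi_one⟩
  mul_mem' := by
    rintro a b ⟨ha, ha'⟩ ⟨hb, hb'⟩
    exact ⟨(F.T : Subgroup G).mul_mem ha hb, by rw [F.chi_mul ha hb, ha', hb', add_zero]⟩
  inv_mem' := by
    rintro a ⟨ha, ha'⟩
    refine ⟨(F.T : Subgroup G).inv_mem ha, ?_⟩
    have h := F.chi_mul ((F.T : Subgroup G).inv_mem ha) ha
    rw [inv_mul_cancel, F.chi_one, ha', add_zero] at h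
    exact h.symm

theorem mem_T1 {t : G} : t ∈ F.T1 ↔ t ∈ (F.T : Subgroup G) ∧ F.chi t = 0 := Iff.rfl

theorem T1_le : F.T1 ≤ (F.T : Subgroup G) := fun _ h => h.1

/-- the element outside -/
noncomputable def c₀ : G := F.v e₀

theorem chi_c₀ : F.chi F.c₀ = 1 := (F.chi_v e₀).trans pair_facts.2.2.1

theorem c₀_mem : F.c₀ ∈ (F.T : Subgroup G) := F.le_syl (F.v_mem _)

theorem card_T : Nat.card (F.T : Subgroup G) = 64 := by
  let π : ↥(F.T : Subgroup G) →* P5 :=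
    MonoidHom.mk' (fun t => F.perm t) (fun s t => F.perm_mul _ (F.le_norm s.2) _ (F.le_norm t.2))
  have hker : π.ker = F.A.subgroupOf (F.T : Subgroup G) := by
    ext t
    exact ⟨fun h => F.mem_of_perm _ t.2 h, fun h => F.perm_of_mem h⟩
  have hrange : Nat.card π.range = 4 := by
    rw [← gen_facts.2.2.2.2.2.2.2.2.2.1, ← Nat.card_eq_finsetCard]
    refine Nat.card_congr ⟨fun s => ⟨s, ?_⟩, fun s => ⟨s, ?_⟩, fun s => rfl, fun s => rfl⟩
    · obtain ⟨t, ht⟩ := s.2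
      rw [List.mem_toFinset, ← ht]
      exact F.perm_four _ t.2
    · obtain ⟨t, ht, hts⟩ := F.four_lift _ (List.mem_toFinset.1 s.2)
      exact ⟨⟨t, ht⟩, hts⟩
  have h := π.ker.card_mul_index
  rw [index_ker, hrange, hker, Nat.card_congr (subgroupOfEquivOfLe F.le_syl).toEquiv, F.card] at h
  omega

theorem card_T1 : Nat.card F.T1 = 32 := by
  let χ : ↥(F.T : Subgroup G) →* Multiplicative (ZMod 2) :=
    MonoidHom.mk' (fun t => Multiplicative.ofAdd (F.chi t))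
      (fun s t => by rw [← ofAdd_add, ← F.chi_mul s.2 t.2]; rfl)
  have hker : χ.ker = F.T1.subgroupOf (F.T : Subgroup G) := by
    ext t
    exact ⟨fun h => ⟨t.2, h⟩, fun h => h.2⟩
  have hs : Function.Surjective χ := fun a => by
    have h2 : ∀ a : ZMod 2, a = 0 ∨ a = 1 := by decide
    rcases h2 a.toAdd with e | e
    · exact ⟨1, (map_one χ).trans (show (1 : Multiplicative (ZMod 2)) = a from e.symm)⟩
    · exact ⟨⟨F.c₀, F.c₀_mem⟩, F.chi_c₀.trans e.symm⟩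
  have h := χ.ker.card_mul_index
  rw [index_ker, MonoidHom.range_eq_top.2 hs, card_top, hker,
    Nat.card_congr (subgroupOfEquivOfLe F.T1_le).toEquiv, F.card_T, Nat.card_congr Multiplicative.toAdd,
    Nat.card_zmod] at h
  omega

/-- **a normal subgroup of index two of the centraliser** -/
theorem exists_index_two : ∃ H : Subgroup G, H ≤ centralizer ({F.z} : Set G) ∧
    centralizer ({F.z} : Set G) ≤ normalizer (H : Set G) ∧
    (∀ t ∈ (F.T : Subgroup G), t ∈ H ↔ t ∈ F.T1) ∧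
    (∀ g ∈ centralizer ({F.z} : Set G), g ∈ H ∨ g * F.c₀ ∈ H) ∧
    ¬ 2 ∣ (F.T1.subgroupOf H).index := by
  haveI : Fact (Nat.Prime 2) := ⟨Nat.prime_two⟩
  set C := centralizer ({F.z} : Set G) with hC
  set R := (F.T : Subgroup G).subgroupOf C with hR
  let φ : ↥R →* Multiplicative (ZMod 2) :=
    MonoidHom.mk' (fun t => Multiplicative.ofAdd (F.chi ((t : C) : G)))
      (fun s t => congrArg Multiplicative.ofAdd (F.chi_mul (s := ((s : C) : G)) (t := ((t : C) : G)) s.2 t.2))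
  set Φ := MonoidHom.transfer φ with hΦ
  have hidx : ¬ 2 ∣ R.index := fun h => F.T.not_dvd_index (h.trans (by
    rw [← (F.T : Subgroup G).relIndex_mul_index F.T_le_cent]
    exact dvd_mul_right _ _))
  have hpow : ∀ (a : Multiplicative (ZMod 2)), a ^ R.index = a := by
    intro a
    have h2 : a ^ 2 = 1 := (mult_two.1 a).1
    rw [pow_eq_pow_mod _ h2, Nat.two_dvd_ne_zero.1 hidx, pow_one]
  have hval : ∀ (t : C) (ht : t ∈ R), Φ t = Multiplicative.ofAdd (F.chi (t : G)) := by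
    intro t ht
    rw [hΦ, transfer_eq_pow_index φ t ht, hpow]
    · rfl
    intro k g₀ hk
    rw [← map_pow]
    show Multiplicative.ofAdd (F.chi (((g₀⁻¹ * t ^ k * g₀ : C)) : G)) = Multiplicative.ofAdd (F.chi (((t ^ k : C)) : G))
    congr 1
    have hk' : (g₀ : G)⁻¹ * (t : G) ^ k * (g₀ : G) ∈ (F.T : Subgroup G) := by
      simpa [hR, mem_subgroupOf] using hk
    push_cast
    have h := F.chi_conj (C.inv_mem g₀.2) ((F.T : Subgroup G).pow_mem ht k) (by rwa [inv_inv])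
    rwa [inv_inv] at h
  clear_value Φ
  set K := Φ.ker with hK
  have hKmem : ∀ g : G, g ∈ K.map C.subtype ↔ ∃ h : g ∈ C, Φ ⟨g, h⟩ = 1 := fun g => by
    constructor
    · rintro ⟨x, hx, rfl⟩; exact ⟨x.2, hx⟩
    · rintro ⟨h, hx⟩; exact ⟨⟨g, h⟩, hx, rfl⟩
  have hc0C : F.c₀ ∈ C := F.T_le_cent F.c₀_mem
  have hΦc : Φ ⟨F.c₀, hc0C⟩ = Multiplicative.ofAdd 1 := by
    rw [hval _ F.c₀_mem, F.chi_c₀]
  have h2 : ∀ a : Multiplicative (ZMod 2), a = 1 ∨ a * Multiplicative.ofAdd 1 = 1 := fun a => (mult_two.1 a).2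
  have hsurj : Function.Surjective Φ := fun a => by
    rcases h2 a with e | e
    · exact ⟨1, by rw [map_one, e]⟩
    · refine ⟨⟨F.c₀, hc0C⟩, ?_⟩
      rw [hΦc]
      exact mult_two.2 a e
  refine ⟨K.map C.subtype, map_subtype_le _, ?_, fun t ht => ?_, fun g hg => ?_, ?_⟩
  · intro g hg
    refine CfsgLib.ProdFusion.mem_of_forall_conj_mem ?_
    rintro _ ⟨x, hx, rfl⟩
    exact ⟨⟨g, hg⟩ * x * ⟨g, hg⟩⁻¹, (inferInstance : K.Normal).conj_mem x hx _, rfl⟩
  · rw [hKmem, F.mem_T1]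
    refine ⟨fun ⟨h, e⟩ => ⟨ht, ?_⟩, fun h => ⟨F.T_le_cent ht, ?_⟩⟩
    · rw [hval ⟨t, h⟩ ht] at e; exact e
    · rw [hval ⟨t, F.T_le_cent ht⟩ ht, h.2]; rfl
  · rcases h2 (Φ ⟨g, hg⟩) with e | e
    · exact Or.inl ((hKmem g).2 ⟨hg, e⟩)
    · refine Or.inr ((hKmem _).2 ⟨C.mul_mem hg hc0C, ?_⟩)
      rw [show (⟨g * F.c₀, C.mul_mem hg hc0C⟩ : C) = ⟨g, hg⟩ * ⟨F.c₀, hc0C⟩ from rfl, map_mul, hΦc, e]
  · have hle : F.T1 ≤ K.map C.subtype := fun t ht => (hKmem t).2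
      ⟨F.T_le_cent (F.T1_le ht), by rw [hval ⟨t, F.T_le_cent (F.T1_le ht)⟩ (F.T1_le ht), ht.2]; rfl⟩
    have e1 := K.card_mul_index
    rw [index_ker, MonoidHom.range_eq_top.2 hsurj, card_top, Nat.card_congr Multiplicative.toAdd, Nat.card_zmod] at e1
    have e2 := R.card_mul_index
    rw [Nat.card_congr (subgroupOfEquivOfLe F.T_le_cent).toEquiv, F.card_T] at e2
    have e3 := (F.T1.subgroupOf (K.map C.subtype)).card_mul_index
    rw [Nat.card_congr (subgroupOfEquivOfLe hle).toEquiv, F.card_T1,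
      card_map_of_injective (subtype_injective C)] at e3
    omega

end Frame

end CfsgLib.Invol.EightTypeThree
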